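import Groth.Agent.Lib.TateTors22.HomFinite
import Mathlib.RingTheory.Polynomial.GaussLemma
import Mathlib.RingTheory.IntegralClosure.IsIntegralClosure.Basic

/-!
# The minimal polynomial of an endomorphism on the Tate module is integral
-/

universe u

open CategoryTheory Limits AlgebraicGeometry MonoidalCategory CartesianMonoidalCategory MonObj Polynomial TensorProduct

set_option linter.style.haveILetI false
set_option backward.isDefEq.respectTransparency false

namespace Groth.Agent.TateTors22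

/-- In a `ℤ`-algebra which is finite free as a module, an element has an integral monic polynomial whose degree
many powers are independent. -/
theorem exists_monic_aeval_indep {E : Type*} [Ring E] [Module.Free ℤ E] [Module.Finite ℤ E] (a : E) :
    ∃ P : ℤ[X], P.Monic ∧ eval₂ (Int.castRingHom E) a P = 0 ∧ LinearIndependent ℤ fun i : Fin P.natDegree => a ^ (i : ℕ) := by
  let j : E →ₐ[ℤ] ℚ ⊗[ℤ] E := Algebra.TensorProduct.includeRight
  have hj : Function.Injective j := Algebra.TensorProduct.includeRight_injective (A := ℚ) (B := E)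
    (RingHom.injective_int _)
  obtain ⟨M, hM, hMa⟩ := Algebra.IsIntegral.isIntegral (R := ℤ) a
  rw [← aeval_def] at hMa
  let b : ℚ ⊗[ℤ] E := j a
  have hint : IsIntegral ℚ b := ⟨M.map (algebraMap ℤ ℚ), hM.map _, by
    rw [← aeval_def, aeval_map_algebraMap, aeval_algHom_apply, hMa, map_zero]⟩
  have hdvd : minpoly ℚ b ∣ M.map (algebraMap ℤ ℚ) := minpoly.dvd ℚ b (by
    rw [aeval_map_algebraMap, aeval_algHom_apply, hMa, map_zero])
  obtain ⟨P, hP⟩ := IsIntegrallyClosed.eq_map_mul_C_of_dvd ℚ hM hdvd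
  rw [minpoly.monic hint, C_1, _root_.mul_one] at hP
  have hPm : P.Monic := Function.Injective.monic_map_iff (algebraMap ℤ ℚ).injective_int |>.2 (hP ▸ minpoly.monic hint)
  refine ⟨P, hPm, ?_, Fintype.linearIndependent_iff.2 fun c hc i => ?_⟩
  · rw [← algebraMap_int_eq, ← aeval_def]
    apply hj
    rw [← aeval_algHom_apply, map_zero, ← aeval_map_algebraMap ℚ, hP, minpoly.aeval]
  · let Q : ℤ[X] := ∑ i : Fin P.natDegree, C (c i) * X ^ (i : ℕ)
    have hQ : aeval b (Q.map (algebraMap ℤ ℚ)) = 0 := by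
      rw [aeval_map_algebraMap, aeval_algHom_apply]
      have : aeval a Q = ∑ i : Fin P.natDegree, c i • a ^ (i : ℕ) := by
        simp [Q, zsmul_eq_mul]
      rw [this, hc, map_zero]
    have hQ0 : Q.map (algebraMap ℤ ℚ) = 0 := by
      by_contra h
      have h1 := minpoly.degree_le_of_ne_zero ℚ b h hQ
      rw [← hP, degree_map_eq_of_injective (algebraMap ℤ ℚ).injective_int, degree_map_eq_of_injective
        (algebraMap ℤ ℚ).injective_int, degree_eq_natDegree hPm.ne_zero] at h1
      exact absurd h1 (not_le.2 (lt_of_le_of_lt (degree_sum_le _ _) ((Finset.sup_lt_iff (WithBot.bot_lt_coe _)).2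
        fun l _ => lt_of_le_of_lt (degree_C_mul_X_pow_le _ _) (WithBot.coe_lt_coe.2 l.2))))
    rw [Polynomial.map_eq_zero_iff (algebraMap ℤ ℚ).injective_int] at hQ0
    have h2 := congrArg (fun q => q.coeff (i : ℕ)) hQ0
    simpa [Q, finsetSum_coeff, coeff_C_mul, coeff_X_pow, Fin.val_inj] using h2

variable {k : Type u} [Field k] {A : Over (Spec (CommRingCat.of k))}
  [GrpObj A] [IsCommMonObj A] [IsProper A.hom] [GeometricallyIntegral A.hom]
  (K : Type u) [Field K] [Algebra k K] [IsAlgClosed K]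

/-- The minimal polynomial of `T_l(α)` has integer coefficients. -/
theorem exists_monic_int_minpoly (l : ℕ) [Fact l.Prime] (hl : (l : k) ≠ 0) (α : EndAV.End A) :
    ∃ P : ℤ[X], P.Monic ∧ minpoly ℤ_[l] (EndAV.End.tateRep l (SGA7.pt (K := k) K) α) = P.map (Int.castRingHom ℤ_[l]) := by
  haveI : Module.Finite ℤ (EndAV.End A) := finite_hom (A := A) (B := A)
  haveI : Module.Free ℤ (EndAV.End A) := free_hom (A := A) (B := A)
  obtain ⟨P, hPm, hPa, hind⟩ := exists_monic_aeval_indep α
  refine ⟨P, hPm, ?_⟩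
  let ρ := EndAV.End.tateRep (A := A) l (SGA7.pt (K := k) K)
  let e := ρ α
  have hρ : LinearIndependent ℤ_[l] fun i : Fin P.natDegree => e ^ (i : ℕ) := by
    have h := linearIndependent_tateMap (A := A) (B := A) K l hl (fun i : Fin P.natDegree => α ^ (i : ℕ)) hind
    have h' : (fun i : Fin P.natDegree => e ^ (i : ℕ)) =
        fun i : Fin P.natDegree => EndAV.Hom.tateMap (A := A) (B := A) l (SGA7.pt (K := k) K) (α ^ (i : ℕ)) :=
      funext fun i => (_root_.map_pow ρ α _).symm
    rw [h']
    exact h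
  have hPe : aeval e (P.map (Int.castRingHom ℤ_[l])) = 0 := by
    rw [show Int.castRingHom ℤ_[l] = algebraMap ℤ ℤ_[l] from (algebraMap_int_eq _).symm, aeval_map_algebraMap,
      aeval_def, RingHom.ext_int (algebraMap ℤ (Module.End ℤ_[l] _)) (ρ.comp (Int.castRingHom (EndAV.End A))),
      ← Polynomial.hom_eval₂]
    rw [hPa, map_zero]
  have hint : IsIntegral ℤ_[l] e := ⟨_, hPm.map _, hPe⟩
  have hlow : ∀ q : ℤ_[l][X], aeval e q = 0 → q.degree < (P.natDegree : ℕ) → q = 0 := fun q hq hdeg => by
    by_contra h0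
    have hn : q.natDegree < P.natDegree := by
      rw [degree_eq_natDegree h0] at hdeg
      exact_mod_cast hdeg
    rw [aeval_eq_sum_range' hn, ← Fin.sum_univ_eq_sum_range (fun i => q.coeff i • e ^ i)] at hq
    have h1 := Fintype.linearIndependent_iff.1 hρ (fun i => q.coeff i) hq
    exact h0 (leadingCoeff_eq_zero.1 (h1 ⟨q.natDegree, hn⟩))
  have hdP : (P.map (Int.castRingHom ℤ_[l])).degree = (P.natDegree : ℕ) := by
    rw [hPm.degree_map, degree_eq_natDegree hPm.ne_zero]
  have hle : (minpoly ℤ_[l] e).degree ≤ (P.natDegree : ℕ) := hdP ▸ minpoly.min _ _ (hPm.map _) hPe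
  have heq : (minpoly ℤ_[l] e).degree = (P.natDegree : ℕ) := le_antisymm hle (le_of_not_gt fun h =>
    minpoly.ne_zero hint (hlow _ (minpoly.aeval _ _) h))
  refine sub_eq_zero.1 (hlow _ (by rw [map_sub, minpoly.aeval, hPe, sub_zero]) ?_)
  refine lt_of_lt_of_eq (degree_sub_lt (heq.trans hdP.symm) (minpoly.ne_zero hint) ?_) heq
  rw [(minpoly.monic hint).leadingCoeff, (hPm.map _).leadingCoeff]

end Groth.Agent.TateTors22
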