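import Groth.Agent.Lib.TateTors22.FiniteIff
import Groth.Agent.Lib.AVPRank22.Kernel
import Groth.Agent.Lib.AVDegree22.Count2
import Groth.Agent.Lib.VarDim.Scheme
import Mathlib.FieldTheory.PurelyInseparable.Basic
import Mathlib.FieldTheory.IsAlgClosed.AlgebraicClosure

/-!
# The degree of an isogeny is a power of the exponential characteristic times the points of its kernel
-/

universe u

open CategoryTheory Limits AlgebraicGeometry MonoidalCategory CartesianMonoidalCategory MonObj
open scoped GrpObj

set_option linter.style.haveILetI false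
set_option backward.isDefEq.respectTransparency false

namespace Groth.Agent.TateTors22

open Groth.Agent.AVDegree22 (fieldMap fieldDeg)

variable {k : Type u} [Field k]

/-- The degree of a finite extension is a power of the exponential characteristic times the embeddings. -/
theorem exists_finrank_eq_pow_mul {F E : Type u} [Field F] [Field E] [Algebra F E] [FiniteDimensional F E]
    (q : ℕ) [ExpChar F q] (Ω : Type u) [Field Ω] [Algebra F Ω] [IsAlgClosed Ω] :
    ∃ j, Module.finrank F E = q ^ j * Nat.card (E →ₐ[F] Ω) := by
  haveI : ExpChar (separableClosure F E) q :=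
    expChar_of_injective_ringHom (algebraMap F (separableClosure F E)).injective q
  obtain ⟨j, hj⟩ := IsPurelyInseparable.finrank_eq_pow (F := separableClosure F E) E q
  exact ⟨j, by rw [← Field.finSepDegree_eq_of_isAlgClosed, ← Field.finSepDegree_mul_finInsepDegree,
    Field.finInsepDegree, hj, mul_comm]⟩

/-- Points of a finite scheme do not depend on the algebraically closed field. -/
theorem natCard_algHom_eq (R : Type u) [CommRing R] [Algebra k R] [Module.Finite k R] (K : Type u) [Field K]
    [Algebra k K] [IsAlgClosed K] : Nat.card (R →ₐ[k] K) = Nat.card (R →ₐ[k] AlgebraicClosure k) := by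
  let σ : AlgebraicClosure k →ₐ[k] K := IsAlgClosed.lift
  refine (Nat.card_congr (Equiv.ofBijective (fun g : R →ₐ[k] AlgebraicClosure k => σ.comp g) ⟨fun g g' h => ?_,
    fun g => ?_⟩)).symm
  · exact AlgHom.ext fun r => σ.toRingHom.injective (AlgHom.congr_fun h r)
  · letI : Algebra (AlgebraicClosure k) K := σ.toRingHom.toAlgebra
    haveI : IsScalarTower k (AlgebraicClosure k) K := IsScalarTower.of_algebraMap_eq fun c => (σ.commutes c).symm
    have hr : ∀ r, g r ∈ σ.range := fun r => by
      have hint : IsIntegral (AlgebraicClosure k) (g r) := ((IsIntegral.of_finite k r).map g).tower_top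
      obtain ⟨y, hy⟩ := (minpoly.degree_eq_one_iff (A := AlgebraicClosure k) (x := g r)).1
        (IsAlgClosed.degree_eq_one_of_irreducible _ (minpoly.irreducible hint))
      exact ⟨y, hy⟩
    refine ⟨(AlgEquiv.ofInjective σ σ.toRingHom.injective).symm.toAlgHom.comp (g.codRestrict σ.range hr), ?_⟩
    refine AlgHom.ext fun r => ?_
    show σ ((AlgEquiv.ofInjective σ σ.toRingHom.injective).symm ⟨g r, hr r⟩) = g r
    exact congrArg Subtype.val ((AlgEquiv.ofInjective σ σ.toRingHom.injective).apply_symm_apply ⟨g r, hr r⟩)

theorem natCard_points_eq (N : Over (Spec (CommRingCat.of k))) [IsFinite N.hom] (K : Type u) [Field K]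
    [Algebra k K] [IsAlgClosed K] :
    Nat.card (SGA7.pt (K := k) K ⟶ N) = Nat.card (SGA7.pt (K := k) (AlgebraicClosure k) ⟶ N) := by
  haveI : IsAffine N.left := isAffine_of_isAffineHom N.hom
  let R := Γ(N.left, ⊤)
  let φ : CommRingCat.of k ⟶ R := Spec.preimage (N.left.isoSpec.inv ≫ N.hom)
  have hφ : Spec.map φ = N.left.isoSpec.inv ≫ N.hom := Spec.map_preimage _
  letI : Algebra k R := φ.hom.toAlgebra
  have hfin : IsFinite (Spec.map φ) := by rw [hφ]; infer_instance
  rw [IsFinite.SpecMap_iff] at hfin
  haveI : Module.Finite k R := hfin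
  have e : ∀ (L : Type u) [Field L] [Algebra k L], (SGA7.pt (K := k) L ⟶ N) ≃ (R →ₐ[k] L) := fun L _ _ =>
    { toFun := fun y => AlgHom.mk (Spec.preimage (y.left ≫ N.left.isoSpec.hom)).hom fun c => by
        have h : φ ≫ Spec.preimage (y.left ≫ N.left.isoSpec.hom) = CommRingCat.ofHom (algebraMap k L) := by
          apply Spec.map_injective
          rw [Spec.map_comp, Spec.map_preimage, hφ, Category.assoc, Iso.hom_inv_id_assoc]
          exact Over.w y
        exact congrArg (fun r : CommRingCat.of k ⟶ CommRingCat.of L => r.hom c) h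
      invFun := fun g => Over.homMk (Spec.map (CommRingCat.ofHom g.toRingHom) ≫ N.left.isoSpec.inv) (by
        show (Spec.map (CommRingCat.ofHom g.toRingHom) ≫ N.left.isoSpec.inv) ≫ N.hom = _
        rw [Category.assoc, ← hφ, ← Spec.map_comp]
        congr 1
        ext c
        exact g.commutes c)
      left_inv := fun y => by
        ext1
        show Spec.map (Spec.preimage (y.left ≫ N.left.isoSpec.hom)) ≫ N.left.isoSpec.inv = y.left
        rw [Spec.map_preimage, Category.assoc, Iso.hom_inv_id, Category.comp_id]
      right_inv := fun g => by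
        refine AlgHom.ext fun r => ?_
        show (Spec.preimage ((Spec.map (CommRingCat.ofHom g.toRingHom) ≫ N.left.isoSpec.inv) ≫
          N.left.isoSpec.hom)).hom r = g r
        rw [Category.assoc, Iso.inv_hom_id, Category.comp_id, Spec.preimage_map]
        rfl }
  rw [Nat.card_congr (e K), Nat.card_congr (e _), natCard_algHom_eq]

variable {A B : Over (Spec (CommRingCat.of k))} [GrpObj A] [GrpObj B] (K : Type u) [Field K] [Algebra k K]

/-- The scheme theoretic kernel, in the form used to count points. -/
theorem natCard_kerPts_eq [IsAlgClosed K] (φ : A ⟶ B) [IsFinite φ.left] :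
    Nat.card {x : SGA7.pt (K := k) K ⟶ A // x ≫ φ = 1} =
      Nat.card {x : SGA7.pt (K := k) (AlgebraicClosure k) ⟶ A // x ≫ φ = 1} := by
  let N : Over (Spec (CommRingCat.of k)) := Over.mk (pullback.snd φ.left η[B].left)
  haveI : IsFinite N.hom := inferInstanceAs (IsFinite (pullback.snd φ.left η[B].left))
  let i : N ⟶ A := Over.homMk (pullback.fst φ.left η[B].left) (by
    show pullback.fst φ.left η[B].left ≫ A.hom = pullback.snd φ.left η[B].left
    rw [← Over.w φ, pullback.condition_assoc, Over.w η[B]]
    exact Category.comp_id _)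
  have e : ∀ (L : Type u) [Field L] [Algebra k L],
      {x : SGA7.pt (K := k) L ⟶ A // x ≫ φ = 1} ≃ (SGA7.pt (K := k) L ⟶ N) := fun L _ _ =>
    { toFun := fun x => Over.homMk (pullback.lift x.1.left (Spec.map (CommRingCat.ofHom (algebraMap k L))) (by
          have := congrArg (fun a : SGA7.pt (K := k) L ⟶ B => a.left) x.2
          simp only [Over.comp_left] at this
          rw [this, Hom.one_def, Over.comp_left]
          rfl)) (pullback.lift_snd _ _ _)
      invFun := fun y => ⟨y ≫ i, by
        ext1
        rw [Hom.one_def, Over.comp_left, Over.comp_left, Over.comp_left, Category.assoc]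
        show y.left ≫ pullback.fst φ.left η[B].left ≫ φ.left = _
        rw [pullback.condition, ← Category.assoc, show y.left ≫ pullback.snd φ.left η[B].left =
          (SGA7.pt (K := k) L).hom from Over.w y]
        rfl⟩
      left_inv := fun x => Subtype.ext (by ext1; exact pullback.lift_fst _ _ _)
      right_inv := fun y => by
        ext1
        exact pullback.hom_ext (pullback.lift_fst _ _ _) ((pullback.lift_snd _ _ _).trans (Over.w y).symm) }
  rw [Nat.card_congr (e K), Nat.card_congr (e _), natCard_points_eq]

variable [IsProper A.hom] [IsProper B.hom] [IsIntegral A.left] [IsIntegral B.left]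

omit [GrpObj A] [IsProper A.hom] in
/-- A point of a field lying over the generic point comes from the function field. -/
theorem exists_eq_gen (Ω : Type u) [Field Ω] (a : Spec (CommRingCat.of Ω) ⟶ A.left)
    (h : a (IsLocalRing.closedPoint Ω) = genericPoint A.left) :
    ∃ r : A.left.functionField →+* Ω, Spec.map (CommRingCat.ofHom r) ≫ AVPRank22.gen A = a := by
  obtain ⟨e, he⟩ : ∃ e : A.left.presheaf.stalk (a (IsLocalRing.closedPoint Ω)) ⟶ CommRingCat.of Ω,
      Spec.map e ≫ A.left.fromSpecStalk (a (IsLocalRing.closedPoint Ω)) = a :=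
    ⟨_, Scheme.Spec_stalkClosedPointTo_fromSpecStalk a⟩
  revert e he
  generalize a (IsLocalRing.closedPoint Ω) = z at h ⊢
  subst h
  exact fun e he => ⟨e.hom, he⟩

omit [GrpObj A] [GrpObj B] in
/-- A point over the generic point lies over the generic point. -/
theorem apply_eq_genericPoint (φ : A ⟶ B) [IsFinite φ.left]
    (hdim : topologicalKrullDim A.left = topologicalKrullDim B.left) {z : A.left}
    (hz : φ.left z = genericPoint B.left) : z = genericPoint A.left := by
  by_contra hne
  have h2 := VarDim.sdim_le_comp B.hom φ.left z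
  rw [hz] at h2
  have h3 : VarDim.sdim (φ.left ≫ B.hom) z < VarDim.sdim A.hom (genericPoint A.left) := by
    simp only [Over.w φ]
    exact VarDim.sdim_lt_of_specializes A.hom ((genericPoint_spec A.left).specializes trivial) (Ne.symm hne)
  have h4 := VarDim.dim_eq_sdim_genericPoint A.hom
  have h5 := VarDim.dim_eq_sdim_genericPoint B.hom
  rw [← hdim, h4] at h5
  have h6 : VarDim.sdim A.hom (genericPoint A.left) = VarDim.sdim B.hom (genericPoint B.left) := by
    exact_mod_cast h5
  omega

omit [GrpObj A] [IsProper A.hom] in
theorem gen_ofHom_apply (L : Type u) [Field L] (r : A.left.functionField →+* L) (p : Spec (CommRingCat.of L)) :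
    (Spec.map (CommRingCat.ofHom r) ≫ AVPRank22.gen A) p = genericPoint A.left := by
  have hp : Spec.map (CommRingCat.ofHom r) p = IsLocalRing.closedPoint A.left.functionField :=
    @Subsingleton.elim (PrimeSpectrum A.left.functionField) inferInstance _ _
  rw [Scheme.Hom.comp_apply, hp]
  exact Scheme.fromSpecStalk_closedPoint

omit [GrpObj A] [IsProper A.hom] in
theorem gen_ofHom_comp_hom (L : Type u) [Field L] [Algebra k L] (r : A.left.functionField →ₐ[k] L) :
    (Spec.map (CommRingCat.ofHom r.toRingHom) ≫ AVPRank22.gen A) ≫ A.hom = (SGA7.pt (K := k) L).hom := by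
  rw [Category.assoc, AVPRank22.gen_comp_hom, ← Spec.map_comp]
  show _ = Spec.map _
  congr 1
  ext c
  exact r.commutes c

/-- Embeddings of the function field over that of the target are the points over a generic point. -/
theorem natCard_algHom_eq_kerPts (φ : A ⟶ B) [IsMonHom φ] [IsFinite φ.left] [IsDominant φ.left]
    (hdim : topologicalKrullDim A.left = topologicalKrullDim B.left) (Ω : Type u) [Field Ω] [IsAlgClosed Ω]
    [Algebra k Ω] [Algebra B.left.functionField Ω] [IsScalarTower k B.left.functionField Ω]
    (hfin : 0 < Module.finrank (fieldMap φ).fieldRange A.left.functionField) :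
    letI := (fieldMap φ).toRingHom.toAlgebra
    Nat.card (A.left.functionField →ₐ[B.left.functionField] Ω) =
      Nat.card {x : SGA7.pt (K := k) Ω ⟶ A // x ≫ φ = 1} := by
  letI : Algebra B.left.functionField A.left.functionField := (fieldMap φ).toRingHom.toAlgebra
  haveI : IsScalarTower k B.left.functionField A.left.functionField :=
    IsScalarTower.of_algebraMap_eq fun c => ((fieldMap φ).commutes c).symm
  haveI : FiniteDimensional B.left.functionField A.left.functionField := FiniteDimensional.of_finrank_pos (by
    rwa [show Module.finrank B.left.functionField A.left.functionField = fieldDeg φ from AVPRank22.deg_fieldMap φ])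
  let t : SGA7.pt (K := k) Ω ⟶ B := Over.homMk
    (Spec.map (CommRingCat.ofHom (IsScalarTower.toAlgHom k B.left.functionField Ω).toRingHom) ≫ AVPRank22.gen B)
    (gen_ofHom_comp_hom Ω _)
  let lift : (A.left.functionField →ₐ[B.left.functionField] Ω) → {a : SGA7.pt (K := k) Ω ⟶ A // a ≫ φ = t} := fun σ =>
    ⟨Over.homMk (Spec.map (CommRingCat.ofHom (σ.restrictScalars k).toRingHom) ≫ AVPRank22.gen A)
      (gen_ofHom_comp_hom Ω _), by
      ext1
      show (Spec.map _ ≫ AVPRank22.gen A) ≫ φ.left = Spec.map _ ≫ AVPRank22.gen B
      rw [Category.assoc, AVPRank22.gen_comp, ← Category.assoc, ← Spec.map_comp]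
      congr 2
      ext c
      exact σ.commutes c⟩
  have hbij : Function.Bijective lift := by
    refine ⟨fun σ τ h => ?_, fun ⟨a, ha⟩ => ?_⟩
    · have h1 : Spec.map (CommRingCat.ofHom (σ.restrictScalars k).toRingHom) =
          Spec.map (CommRingCat.ofHom (τ.restrictScalars k).toRingHom) :=
        (cancel_mono (AVPRank22.gen A)).1 (congrArg (fun b => b.1.left) h)
      exact AlgHom.ext fun e => congr($(Spec.map_injective h1).hom e)
    · have hη : a.left (IsLocalRing.closedPoint Ω) = genericPoint A.left := by
        refine apply_eq_genericPoint φ hdim ?_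
        have h1 : (a ≫ φ).left (IsLocalRing.closedPoint Ω) = t.left (IsLocalRing.closedPoint Ω) := by rw [ha]
        rw [Over.comp_left] at h1
        refine Eq.trans h1 ?_
        exact gen_ofHom_apply (A := B) Ω _ _
      obtain ⟨r, hr⟩ := exists_eq_gen Ω a.left hη
      have hcomp : r.comp (fieldMap φ).toRingHom =
          (IsScalarTower.toAlgHom k B.left.functionField Ω).toRingHom := by
        have h1 : (a ≫ φ).left = t.left := congrArg (fun b : SGA7.pt (K := k) Ω ⟶ B => b.left) ha
        rw [Over.comp_left, ← hr, Category.assoc, AVPRank22.gen_comp, ← Category.assoc, ← Spec.map_comp] at h1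
        exact congrArg CommRingCat.Hom.hom (Spec.map_injective ((cancel_mono (AVPRank22.gen B)).1 h1))
      refine ⟨{ r with commutes' := fun c => RingHom.congr_fun hcomp c }, Subtype.ext ?_⟩
      ext1
      exact hr
  rw [Nat.card_congr (Equiv.ofBijective lift hbij)]
  obtain ⟨σ₀⟩ : Nonempty (A.left.functionField →ₐ[B.left.functionField] Ω) := ⟨IsAlgClosed.lift⟩
  refine Nat.card_congr
    { toFun := fun a => ⟨a.1 * (lift σ₀).1⁻¹, by
        rw [MonObj.mul_comp, GrpObj.inv_comp, a.2, (lift σ₀).2, mul_inv_cancel]⟩
      invFun := fun x => ⟨x.1 * (lift σ₀).1, by rw [MonObj.mul_comp, x.2, (lift σ₀).2, _root_.one_mul]⟩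
      left_inv := fun a => Subtype.ext (by simp)
      right_inv := fun x => Subtype.ext (by simp) }

/-- The degree of a finite homomorphism is a power of the exponential characteristic times its kernel. -/
theorem exists_fieldDeg_eq_pow_mul_card [IsAlgClosed K] (φ : A ⟶ B) [IsMonHom φ] [IsFinite φ.left]
    [IsDominant φ.left] (hdim : topologicalKrullDim A.left = topologicalKrullDim B.left) (q : ℕ) [ExpChar k q] :
    ∃ j, fieldDeg φ = q ^ j * Nat.card {x : SGA7.pt (K := k) K ⟶ A // x ≫ φ = 1} := by
  haveI : Surjective φ.left := Surjective.of_universallyClosed_of_isDominant φ.left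
  haveI : Flat φ.left := AbRigid.flat_of_surjective A B φ
  haveI : LocallyOfFinitePresentation φ.left := by
    haveI : IsLocallyNoetherian B.left := LocallyOfFiniteType.isLocallyNoetherian B.hom
    exact inferInstance
  have hpos : 0 < fieldDeg φ := by
    rw [← AVDegree22.finrank_genericPoint φ]
    exact (Scheme.Hom.one_le_finrank_iff_surjective φ.left).2 inferInstance _
  have hΩ := natCard_algHom_eq_kerPts φ hdim (AlgebraicClosure B.left.functionField) hpos
  rw [natCard_kerPts_eq (AlgebraicClosure B.left.functionField) φ, ← natCard_kerPts_eq K φ] at hΩ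
  letI : Algebra B.left.functionField A.left.functionField := (fieldMap φ).toRingHom.toAlgebra
  have hdeg : fieldDeg φ = Module.finrank B.left.functionField A.left.functionField :=
    (AVPRank22.deg_fieldMap φ).symm
  haveI : FiniteDimensional B.left.functionField A.left.functionField :=
    FiniteDimensional.of_finrank_pos (hdeg ▸ hpos)
  haveI : ExpChar B.left.functionField q :=
    expChar_of_injective_ringHom (algebraMap k B.left.functionField).injective q
  obtain ⟨j, hj⟩ := exists_finrank_eq_pow_mul (F := B.left.functionField) (E := A.left.functionField) q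
    (AlgebraicClosure B.left.functionField)
  exact ⟨j, by rw [hdeg, hj, hΩ]⟩

end Groth.Agent.TateTors22
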