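import Groth.Agent.Lib.TateTors22.Coker
import Groth.Agent.Lib.TateTors22.SepDeg
import Mathlib.AlgebraicGeometry.AlgClosed.Basic

/-!
# The `l`-adic absolute value of the degree is that of the determinant on the Tate module
-/

universe u

open CategoryTheory Limits AlgebraicGeometry MonoidalCategory CartesianMonoidalCategory MonObj
open scoped GrpObj

set_option linter.style.haveILetI false
set_option backward.isDefEq.respectTransparency false

namespace Groth.Agent.TateTors22

open Groth.Agent.AVDegree22 (fieldDeg)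

variable {k : Type u} [Field k] {A B : Over (Spec (CommRingCat.of k))}
  (K : Type u) [Field K] [Algebra k K] [IsAlgClosed K]

/-- Points in an algebraically closed field lift through finite surjective morphisms. -/
theorem exists_lift_point (φ : A ⟶ B) [IsFinite φ.left] [Surjective φ.left] (y : SGA7.pt (K := k) K ⟶ B) :
    ∃ x : SGA7.pt (K := k) K ⟶ A, x ≫ φ = y := by
  let bl : Spec (CommRingCat.of K) ⟶ B.left := y.left
  haveI : IsFinite (pullback.snd φ.left bl) := MorphismProperty.pullback_snd _ _ ‹IsFinite φ.left›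
  haveI : Surjective (pullback.snd φ.left bl) := MorphismProperty.pullback_snd _ _ ‹Surjective φ.left›
  obtain ⟨w, -⟩ := (pullback.snd φ.left bl).surjective (IsLocalRing.closedPoint K)
  haveI : Nonempty ↑(pullback φ.left bl) := ⟨w⟩
  haveI : CompactSpace ↑(pullback φ.left bl) := QuasiCompact.compactSpace_of_compactSpace (pullback.snd φ.left bl)
  obtain ⟨z, -, hzc⟩ := isClosed_univ.exists_closed_singleton (S := (Set.univ : Set ↑(pullback φ.left bl)))
    Set.univ_nonempty
  let σ := pointOfClosedPoint (pullback.snd φ.left bl) z hzc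
  have hσ : σ ≫ pullback.snd φ.left bl = 𝟙 _ := pointOfClosedPoint_comp _ z hzc
  have h1 : (σ ≫ pullback.fst φ.left bl) ≫ φ.left = bl := by
    rw [Category.assoc, pullback.condition, ← Category.assoc, hσ, Category.id_comp]
  refine ⟨Over.homMk (σ ≫ pullback.fst φ.left bl) ?_, ?_⟩
  · show (σ ≫ pullback.fst φ.left bl) ≫ A.hom = _
    rw [← Over.w φ, ← Category.assoc, h1]
    exact Over.w y
  · ext1
    exact h1

variable [GrpObj A] [IsCommMonObj A] [IsProper A.hom] [GeometricallyIntegral A.hom] [IsIntegral A.left]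
  (l : ℕ) [Fact l.Prime]

/-- The absolute value of the degree of a finite endomorphism. -/
theorem norm_fieldDeg_eq_norm_det (hl : (l : k) ≠ 0) (φ : A ⟶ A) [IsMonHom φ] [IsFinite φ.left]
    [IsDominant φ.left] :
    ‖(fieldDeg φ : ℤ_[l])‖ = ‖LinearMap.det (AbDual.tateMapₗ (l := l) (T := SGA7.pt (K := k) K) φ)‖ := by
  haveI := free_tateMod (A := A) K l hl
  haveI := finite_tateMod (A := A) K l hl
  haveI : Surjective φ.left := Surjective.of_universallyClosed_of_isDominant φ.left
  obtain ⟨a, M, hcard, hM, hcoker, -⟩ := nonempty_coker_equiv K l hl φ (exists_lift_point K φ)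
  have h1 := natCard_coker_mul_norm_det _ (injective_tateMap_of_isFinite K l φ)
  rw [hcoker] at h1
  obtain ⟨q, hq⟩ := ExpChar.exists k
  obtain ⟨j, hj⟩ := exists_fieldDeg_eq_pow_mul_card K φ rfl q
  have hq' : ¬ l ∣ q := by
    cases hq with
    | zero => exact fun h => (Fact.out : l.Prime).ne_one (Nat.dvd_one.1 h)
    | prime hqp =>
      intro h
      rw [(Nat.prime_dvd_prime_iff_eq Fact.out hqp).1 h] at hl
      exact hl (CharP.cast_eq_zero k q)
  have hu : ∀ m : ℕ, ¬ l ∣ m → ‖(m : ℤ_[l])‖ = 1 := fun m hm =>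
    PadicInt.norm_natCast_eq_one_iff.2 ((Nat.Prime.coprime_iff_not_dvd Fact.out).2 hm)
  rw [show fieldDeg φ = q ^ j * Nat.card (kerPts K φ) from hj, hcard]
  push_cast
  rw [norm_mul, norm_mul, norm_pow, hu q hq', hu M hM, one_pow, _root_.one_mul, _root_.mul_one, norm_pow,
    PadicInt.norm_p, inv_pow]
  refine (eq_inv_of_mul_eq_one_right ?_).symm
  simpa using h1

end Groth.Agent.TateTors22
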