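import Groth.Agent.Lib.CurveCoh17.Section
import Groth.Agent.Lib.Ample18.Ample
import Groth.Agent.Lib.Ample18.Avoid
import Groth.Agent.Lib.CubeField.Product
import Groth.Agent.S0002

/-!
# Positivity of ample degrees on curves
-/

universe u

open CategoryTheory Limits AlgebraicGeometry

set_option linter.style.haveILetI false
set_option backward.isDefEq.respectTransparency false

namespace Groth.Agent.TateTors22

open CurveCoh17

variable {k : Type u} [Field k]

theorem deg_pos_of_section {C : Scheme.{u}} [C.Over (Spec (CommRingCat.of k))] [IsIntegral C]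
    (hC : CurveLike k C) {N : C.Modules} (hN : PicF.IsInvertible N) (s : Coh.structureModule C ⟶ N)
    {x y : C} (hx : x ∈ CohB1.genLocus N s) (hy : y ∉ CohB1.genLocus N s) :
    0 < Curv2.deg k C N 1 := by
  haveI := hC.noetherian
  let v : Γ(N, (⊤ : C.Opens)) := s.app ⊤ (M1.one ⊤)
  have hs : M1.secHom v = s := M1.unit_hom_ext (M1.secHom_app_one v)
  have hnotiso : ¬ IsIso s := fun h => hy (by
    refine TopologicalSpace.Opens.mem_sSup.2 ⟨(⊤ : C.Opens), ?_, trivial⟩
    exact @Functor.map_isIso _ _ _ _ _ _ (Scheme.Modules.restrictFunctor _) s h)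
  have hv : v ≠ 0 := fun h0 => by
    rw [← hs, h0, Amp.genLocus_secHom_zero hN] at hx
    exact hx.elim
  obtain ⟨t, -, hχ, -, -, -, ht⟩ := hC.section_numerics (rkOne_of_invertible hC.dim hN) hv
  have ht0 : t ≠ 0 := fun h => hnotiso (by rw [← hs]; exact ht h)
  rw [Curv2.deg, hχ]
  push_cast
  omega

/-- A proper integral scheme of dimension at most one is a curve. -/
theorem curveLike_of_proper {C : Scheme.{u}} [C.Over (Spec (CommRingCat.of k))]
    [IsProper (C ↘ Spec (CommRingCat.of k))] (hd : topologicalKrullDim C ≤ 1) : CurveLike k C := by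
  haveI : IsLocallyNoetherian C := LocallyOfFiniteType.isLocallyNoetherian (C ↘ Spec (CommRingCat.of k))
  haveI : CompactSpace C := QuasiCompact.compactSpace_of_compactSpace (C ↘ Spec (CommRingCat.of k))
  exact ⟨{}, ⟨by rw [← Limits.terminal.comp_from (C ↘ Spec (CommRingCat.of k))]; infer_instance⟩, hd,
    fun M hM n => Groth.Agent.S0002.result k C M hM n⟩

end Groth.Agent.TateTors22
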