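import Groth.Agent.Lib.VarDim.Fibre
import Mathlib.RingTheory.Ideal.KrullsHeightTheorem
import Mathlib.AlgebraicGeometry.Morphisms.UnderlyingMap

/-!
# Curves through a closed point avoiding a closed set
-/

universe u

open CategoryTheory AlgebraicGeometry Order

namespace Groth.Agent.TateTors22

/-- Between `0` and a prime of height at least two lies a prime avoiding a given element. -/
theorem exists_prime_between {R : Type u} [CommRing R] [IsNoetherianRing R] [IsDomain R] (m : Ideal R)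
    [m.IsPrime] (h2 : ∃ q : Ideal R, q.IsPrime ∧ ⊥ < q ∧ q < m) (g : R) (hg : g ≠ 0) :
    ∃ q : Ideal R, q.IsPrime ∧ ⊥ < q ∧ q < m ∧ g ∉ q := by
  obtain ⟨q₀, hq₀, hq₀b, hq₀m⟩ := h2
  haveI := hq₀
  by_cases hgm : g ∈ m
  swap
  · exact ⟨q₀, hq₀, hq₀b, hq₀m, fun h => hgm (hq₀m.le h)⟩
  have hbig : ∀ P : Ideal R, P.height ≤ 1 → P ≠ m := by
    rintro P hP rfl
    have h1 : (⊥ : Ideal R).height < q₀.height := Ideal.height_strict_mono_of_isPrime_of_isPrime hq₀b
    have h3 : q₀.height < P.height := Ideal.height_strict_mono_of_isPrime_of_isPrime hq₀m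
    rw [Ideal.height_bot] at h1
    have h5 : (1 : ℕ∞) ≤ q₀.height := Order.one_le_iff_pos.2 h1
    exact absurd hP (not_le.2 (h5.trans_lt h3))
  have hfin : ((Ideal.span {g}).minimalPrimes).Finite := (Ideal.span {g}).finite_minimalPrimes_of_isNoetherianRing R
  have hav : ¬ ((m : Set R) ⊆ ⋃ P ∈ (hfin.toFinset : Set (Ideal R)), (P : Set R)) := by
    rw [Ideal.subset_union_prime (R := R) ⊥ ⊥ (fun P hP _ _ => (hfin.mem_toFinset.1 hP).1.1)]
    rintro ⟨P, hP, hle⟩
    have hP' := hfin.mem_toFinset.1 hP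
    have hht : P.height ≤ 1 := Ideal.height_le_one_of_isPrincipal_of_mem_minimalPrimes _ P hP'
    haveI := hP'.1.1
    rcases hle.lt_or_eq with hlt | heq
    · have h3 : m.height < P.height := Ideal.height_strict_mono_of_isPrime_of_isPrime hlt
      exact hbig m (h3.le.trans hht) rfl
    · exact hbig P hht heq.symm
  obtain ⟨h, hhm, hh⟩ := Set.not_subset.1 hav
  have hh0 : h ≠ 0 := by
    rintro rfl
    obtain ⟨P, hP⟩ : Nonempty (Ideal.span {g}).minimalPrimes := Ideal.nonempty_minimalPrimes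
      fun htop => ‹m.IsPrime›.ne_top (top_le_iff.1 (htop.ge.trans ((Ideal.span_singleton_le_iff_mem _).2 hgm)))
    exact hh (Set.mem_iUnion₂.2 ⟨P, hfin.mem_toFinset.2 hP, zero_mem _⟩)
  obtain ⟨q, hq, hqm⟩ := Ideal.exists_minimalPrimes_le ((Ideal.span_singleton_le_iff_mem (I := m)).2 hhm)
  haveI := hq.1.1
  have hqht : q.height ≤ 1 := Ideal.height_le_one_of_isPrincipal_of_mem_minimalPrimes _ q hq
  have hhq : h ∈ q := (Ideal.span_singleton_le_iff_mem (I := q)).1 hq.1.2
  have hqb : ⊥ < q := bot_lt_iff_ne_bot.2 fun e => hh0 (by simpa [e] using hhq)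
  refine ⟨q, hq.1.1, hqb, lt_of_le_of_ne hqm (hbig q hqht), fun hgq => ?_⟩
  obtain ⟨P, hP, hPq⟩ := Ideal.exists_minimalPrimes_le ((Ideal.span_singleton_le_iff_mem (I := q)).2 hgq)
  haveI := hP.1.1
  have hgP : g ∈ P := (Ideal.span_singleton_le_iff_mem (I := P)).1 hP.1.2
  rcases hPq.lt_or_eq with hlt | heq
  · have h3 : P.height < q.height := Ideal.height_strict_mono_of_isPrime_of_isPrime hlt
    have hPb : ⊥ < P := bot_lt_iff_ne_bot.2 fun e => hg (by simpa [e] using hgP)
    have h1 : (⊥ : Ideal R).height < P.height := Ideal.height_strict_mono_of_isPrime_of_isPrime hPb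
    rw [Ideal.height_bot] at h1
    exact absurd hqht (not_le.2 ((Order.one_le_iff_pos.2 h1).trans_lt h3))
  · exact hh (Set.mem_iUnion₂.2 ⟨P, hfin.mem_toFinset.2 hP, by rw [heq]; exact hhq⟩)

/-- In a finitely generated algebra, below a maximal ideal a prime of coheight at most one avoids a given
element outside some prime below it. -/
theorem exists_prime_coheight_le_one {k R : Type u} [Field k] [CommRing R] [Algebra k R] [Algebra.FiniteType k R]
    (m : PrimeSpectrum R) (hm : coheight m = 0) (g : R) (p₀ : PrimeSpectrum R) (h₀ : p₀ ≤ m)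
    (hg : g ∉ p₀.asIdeal) :
    ∃ p : PrimeSpectrum R, p ≤ m ∧ g ∉ p.asIdeal ∧ coheight p ≤ 1 := by
  haveI : IsNoetherianRing R := Algebra.FiniteType.isNoetherianRing k R
  let S : Set (Ideal R) := {P | P.IsPrime ∧ P ≤ m.asIdeal ∧ g ∉ P}
  obtain ⟨P, ⟨hP, hPm, hgP⟩, hmax⟩ := set_has_maximal_iff_noetherian.2 ‹_› S ⟨_, p₀.2, h₀, hg⟩
  let p : PrimeSpectrum R := ⟨P, hP⟩
  refine ⟨p, hPm, hgP, ?_⟩
  rcases (show p ≤ m from hPm).lt_or_eq with hlt | heq
  swap
  · rw [heq, hm]; exact zero_le_one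
  have hcov : p ⋖ m := by
    refine ⟨hlt, fun q hpq hqm => ?_⟩
    haveI := hP
    let π := Ideal.Quotient.mk P
    have hker : RingHom.ker π = P := Ideal.mk_ker
    haveI hm' : (m.asIdeal.map π).IsPrime :=
      Ideal.map_isPrime_of_surjective Ideal.Quotient.mk_surjective (by rw [hker]; exact hPm)
    have hq' : (q.asIdeal.map π).IsPrime :=
      Ideal.map_isPrime_of_surjective Ideal.Quotient.mk_surjective (by rw [hker]; exact hpq.le)
    have hcm : ∀ I : Ideal R, P ≤ I → (I.map π).comap π = I := fun I hI => by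
      rw [Ideal.comap_map_of_surjective π Ideal.Quotient.mk_surjective, ← RingHom.ker_eq_comap_bot, hker,
        sup_eq_left.2 hI]
    have hgne : π g ≠ 0 := fun h => hgP (Ideal.Quotient.eq_zero_iff_mem.1 h)
    have hb1 : ⊥ < q.asIdeal.map π := by
      refine bot_lt_iff_ne_bot.2 fun e => hpq.ne (PrimeSpectrum.ext ?_)
      refine le_antisymm hpq.le ?_
      rw [← hcm q.asIdeal hpq.le, e, ← RingHom.ker_eq_comap_bot, hker]
    have hb2 : q.asIdeal.map π < m.asIdeal.map π := by
      refine lt_of_le_of_ne (Ideal.map_mono hqm.le) fun e => hqm.ne (PrimeSpectrum.ext ?_)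
      rw [← hcm q.asIdeal hpq.le, e, hcm _ hPm]
    obtain ⟨Q, hQ, hQb, hQm, hgQ⟩ := exists_prime_between (m.asIdeal.map π) ⟨q.asIdeal.map π, hq', hb1, hb2⟩ (π g) hgne
    · haveI := hQ
      have h1 : P ≤ Q.comap π := fun x hx => by
        rw [Ideal.mem_comap, Ideal.Quotient.eq_zero_iff_mem.2 hx]; exact zero_mem _
      have h2 : Q.comap π ≤ m.asIdeal := (Ideal.comap_mono hQm.le).trans (hcm _ hPm).le
      have h3 : P ≠ Q.comap π := fun e => by
        apply hQb.ne'
        rw [← Ideal.map_comap_of_surjective π Ideal.Quotient.mk_surjective Q, ← e, Ideal.map_quotient_self]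
      exact hmax (Q.comap π) ⟨Ideal.IsPrime.comap π, h2, hgQ⟩ (lt_of_le_of_ne h1 h3)
  rw [VarDim.coheight_covBy k R hcov, hm, zero_add]

/-- Through a closed point there is a curve leaving a given closed set not containing the generic point. -/
theorem exists_curve_avoiding {k : Type u} [Field k] {X : Scheme.{u}} (f : X ⟶ Spec (CommRingCat.of k))
    [LocallyOfFiniteType f] [IrreducibleSpace X] (x : X) (hx : IsClosed ({x} : Set X)) (F : Set X)
    (hF : IsClosed F) (hη : genericPoint X ∉ F) :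
    ∃ y : X, y ⤳ x ∧ y ∉ F ∧ topologicalKrullDim (closure ({y} : Set X)) ≤ 1 := by
  obtain ⟨U, hU, hxU, -⟩ := exists_isAffineOpen_mem_and_subset (X := X) (x := x) (U := ⊤) trivial
  letI : Algebra k Γ(X, U) := (VarDim.baseToSections f U).toAlgebra
  haveI : Algebra.FiniteType k Γ(X, U) := VarDim.finiteType_baseToSections f hU
  have hηU : genericPoint X ∈ U := (genericPoint_specializes x).mem_open U.isOpen hxU
  obtain ⟨g, hgle, hgη⟩ := hU.exists_basicOpen_le (V := ⟨Fᶜ, hF.isOpen_compl⟩) ⟨genericPoint X, hη⟩ hηU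
  let m := hU.primeIdealOf ⟨x, hxU⟩
  let p₀ := hU.primeIdealOf ⟨genericPoint X, hηU⟩
  have hmem : ∀ (p : PrimeSpectrum Γ(X, U)), g ∉ p.asIdeal ↔ hU.fromSpec p ∈ X.basicOpen g := fun p => by
    rw [← SetLike.mem_coe, ← hU.fromSpec_image_basicOpen]
    exact (hU.fromSpec.isOpenEmbedding.injective.mem_set_image (a := p) (s := {q | g ∉ q.asIdeal})).symm
  have hm : coheight m = 0 := by
    rw [VarDim.sdim_eq_coheight f hU x hxU, (VarDim.sdim_eq_zero_iff_isClosed f x).2 hx, Nat.cast_zero]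
  obtain ⟨p, hpm, hgp, hp1⟩ := exists_prime_coheight_le_one (k := k) m hm g p₀
    ((VarDim.primeIdealOf_le_iff hU _ _).2 (genericPoint_specializes x))
    ((hmem p₀).2 (by rw [hU.fromSpec_primeIdealOf]; exact hgη))
  refine ⟨hU.fromSpec p, ?_, hgle ((hmem p).1 hgp), ?_⟩
  · have := (VarDim.fromSpec_le_iff hU p m).2 hpm
    rw [hU.fromSpec_primeIdealOf] at this
    exact this
  · rw [VarDim.dim_closure_singleton f]
    have h1 := VarDim.sdim_eq_coheight f hU _ (VarDim.fromSpec_mem hU p)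
    rw [VarDim.primeIdealOf_fromSpec hU p] at h1
    rw [h1] at hp1
    exact_mod_cast hp1

end Groth.Agent.TateTors22
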