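import Groth.Agent.Lib.TateTors22.Basic
import Groth.Agent.Lib.TateTors22.CurveThrough
import Groth.Agent.Lib.TateTors22.Curve
import Groth.Agent.Lib.CubeField.AmpleExists
import Groth.Agent.Lib.CubeField.Square
import Groth.Agent.Lib.CubeField.Simple
import Groth.Agent.Lib.Ample18.Sections

/-!
# An infinitely divisible homomorphism of abelian varieties is trivial
-/

universe u

open CategoryTheory Limits AlgebraicGeometry MonoidalCategory CartesianMonoidalCategory MonObj
open scoped GrpObj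

set_option linter.style.haveILetI false
set_option backward.isDefEq.respectTransparency false

namespace Groth.Agent.TateTors22

noncomputable local instance instLawT22 (Y : Scheme.{u}) : PicGrp.Law Y := M2.law Y

variable {k : Type u} [Field k] {A B : Over (Spec (CommRingCat.of k))}
  [GrpObj A] [IsCommMonObj A] [IsProper A.hom] [GeometricallyIntegral A.hom]
  [GrpObj B] [IsCommMonObj B] [IsProper B.hom] [GeometricallyIntegral B.hom]

/-- For a symmetric module the class pulled back by `g ^ m` is the `m²`-th power. -/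
theorem P_pow_symm {L : B.left.Modules} (hL : PicF.IsInvertible L)
    (hsym : Nonempty (L ≅ (Scheme.Modules.pullback ((𝟙 B)⁻¹).left).obj L))
    {V : Over (Spec (CommRingCat.of k))} (g : V ⟶ B) (m : ℕ) :
    CubeField.P L hL (g ^ m) = CubeField.P L hL g ^ (m * m) := by
  have hinv : CubeField.P L hL (𝟙 B)⁻¹ = CubeField.P L hL (𝟙 B) := by
    rw [CubeField.P_id]
    exact Subtype.ext ((PicGrp.cl_eq_cl_iff _ _).2 ⟨hsym.some.symm⟩)
  have h := congrArg (PicGrp.pullHom g.left (M2.pullMul _)) (CubeField.P_pow (L := L) (hL := hL) CubeField.finH1 m)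
  rw [hinv, ← pow_add, _root_.map_pow, CubeField.pullHom_P, CubeField.pullHom_P, MonObj.comp_pow, Category.comp_id] at h
  rw [h]
  congr 1
  rcases m with _ | r
  · simp
  · obtain ⟨a, ha⟩ := Nat.even_mul_succ_self r
    rw [Nat.add_sub_cancel, show (r + 1) * (r + 1 + 1) = (a + (r + 1)) * 2 by ring_nf; ring_nf at ha; omega,
      show (r + 1) * r = a * 2 by ring_nf; ring_nf at ha; omega, Nat.mul_div_cancel _ two_pos, Nat.mul_div_cancel _ two_pos]
    ring_nf; ring_nf at ha; omega

/-- A non-trivial homomorphism has positive degree on some curve. -/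
theorem exists_curve_deg_pos [IsAlgClosed k] (φ : A ⟶ B) [IsMonHom φ] (hne : φ ≠ 1) {L : B.left.Modules}
    (hLa : CohB1.IsAmple L) :
    ∃ (C : Over (Spec (CommRingCat.of k))) (i : C ⟶ A),
      letI : C.left.Over (Spec (CommRingCat.of k)) := ⟨C.hom⟩
      IsIntegral C.left ∧ IsProper C.hom ∧ CurveCoh17.CurveLike k C.left ∧
        0 < Curv2.deg k C.left ((Scheme.Modules.pullback (i ≫ φ).left).obj L) 1 := by
  haveI : Smooth A.hom :=
    @smooth_of_grpObj k _ _ A.hom _ (show GrpObj (Over.mk A.hom) from ‹GrpObj A›) _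
  haveI : IsIntegral A.left := GeometricallyIntegral.isIntegral_of_subsingleton A.hom
  obtain ⟨P, hP⟩ : ∃ P : 𝟙_ (Over (Spec (CommRingCat.of k))) ⟶ A, P ≫ φ ≠ 1 :=
    not_forall.1 fun hall => hne (AbRigid.eq_one_of_points φ hall)
  let e : Spec (CommRingCat.of k) := IsLocalRing.closedPoint k
  let pl : Spec (CommRingCat.of k) ⟶ A.left := P.left
  let x : A.left := pl e
  have hxc : IsClosed ({x} : Set A.left) := by
    haveI : IsClosedImmersion pl := isClosedImmersion_of_comp_eq_id (Y := Spec (.of k)) A.hom pl (Over.w P)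
    have : Set.range pl = {x} := Set.eq_singleton_iff_unique_mem.2
      ⟨⟨e, rfl⟩, by rintro _ ⟨z, rfl⟩; rw [Subsingleton.elim (α := Spec (CommRingCat.of k)) z e]⟩
    rw [← this]; exact pl.isClosedEmbedding.isClosed_range
  haveI : IsProper (φ.left ≫ B.hom) := by rw [Over.w]; infer_instance
  haveI : IsProper φ.left := IsProper.of_comp _ B.hom
  let x' : B.left := φ.left x
  have hx'c : IsClosed ({x'} : Set B.left) := by
    rw [← Set.image_singleton]; exact φ.left.isClosedMap _ hxc
  have hη : genericPoint A.left ∉ φ.left ⁻¹' {x'} := by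
    intro hg
    apply hP
    have hall : ∀ a : A.left, φ.left a = x' := fun a => by
      have h1 : φ.left a ∈ closure ({x'} : Set B.left) := by
        rw [← specializes_iff_mem_closure]
        have := (genericPoint_specializes a).map φ.left.continuous
        rwa [show φ.left (genericPoint A.left) = x' from hg] at this
      rwa [hx'c.closure_eq] at h1
    have hu : x' = η[B].left e := by
      rw [← hall (η[A].left e), ← Scheme.Hom.comp_apply, ← Over.comp_left, IsMonHom.one_hom φ]
    ext1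
    haveI : IsReduced (𝟙_ (Over (Spec (CommRingCat.of k)))).left := inferInstanceAs (IsReduced (Spec (CommRingCat.of k)))
    haveI : LocallyOfFiniteType (𝟙_ (Over (Spec (CommRingCat.of k)))).hom :=
      inferInstanceAs (LocallyOfFiniteType (𝟙 (Spec (CommRingCat.of k))))
    haveI : LocallyOfFiniteType ((P ≫ φ).left ≫ B.hom) := by rw [Over.w]; infer_instance
    refine ext_of_apply_eq B.hom Set.univ isOpen_univ.isLocallyClosed dense_univ (fun z _ _ => ?_)
      ((Over.w (P ≫ φ)).trans (Over.w (1 : 𝟙_ (Over (Spec (CommRingCat.of k))) ⟶ B)).symm)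
    rw [show z = e from Subsingleton.elim (α := Spec (CommRingCat.of k)) _ _, Over.comp_left, Scheme.Hom.comp_apply,
      show φ.left (P.left e) = x' from rfl, hu, one_eq_one]
  obtain ⟨y, hyx, hyF, hdim⟩ := exists_curve_avoiding A.hom x hxc (φ.left ⁻¹' {x'})
    (hx'c.preimage φ.left.continuous) hη
  obtain ⟨C, iC, pC, gC, i, hci, hrange, -⟩ := CubeField.exists_subvariety (A := A) isClosed_closure
    (isIrreducible_singleton.closure : IsIrreducible (closure ({y} : Set A.left)))
  haveI := iC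
  haveI := pC
  haveI := hci
  letI : C.left.Over (Spec (CommRingCat.of k)) := ⟨C.hom⟩
  haveI : IsProper (C.left ↘ Spec (CommRingCat.of k)) := pC
  have hd : topologicalKrullDim C.left ≤ 1 := by
    let he := i.left.isEmbedding.toHomeomorph
    rw [IsHomeomorph.topologicalKrullDim_eq he he.isHomeomorph]
    exact (le_of_eq (by rw [hrange])).trans hdim
  have hC := curveLike_of_proper (k := k) hd
  obtain ⟨x₀, hx₀⟩ : x ∈ Set.range i.left := hrange ▸ specializes_iff_mem_closure.1 hyx
  refine ⟨C, i, iC, pC, hC, ?_⟩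
  let f : C.left ⟶ B.left := (i ≫ φ).left
  let M := (Scheme.Modules.pullback f).obj L
  have hM : PicF.IsInvertible M := PicLoc.isInvertible_pullback f hLa.1
  change 0 < Curv2.deg k C.left M 1
  haveI : JacobsonSpace B.left := LocallyOfFiniteType.jacobsonSpace B.hom
  have hyx' : φ.left y ≠ x' := hyF
  obtain ⟨z, hz, hzc, hzne⟩ : ∃ z ∈ closure ({φ.left y} : Set B.left), IsClosed ({z} : Set B.left) ∧ z ≠ x' := by
    by_contra hno
    push Not at hno
    have hsub : closure ({φ.left y} : Set B.left) ∩ closedPoints B.left ⊆ {x'} := fun z hz => hno z hz.1 hz.2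
    have h2 := closure_mono hsub
    rw [closure_inter_closedPoints isClosed_closure, hx'c.closure_eq] at h2
    exact hyx' (h2 (subset_closure rfl))
  obtain ⟨y₁, hy₁, hy₁z⟩ : z ∈ φ.left '' closure ({y} : Set A.left) := by
    rw [← φ.left.isClosedMap.closure_image_eq_of_continuous φ.left.continuous, Set.image_singleton]; exact hz
  obtain ⟨c₁, hc₁⟩ : y₁ ∈ Set.range i.left := hrange ▸ hy₁
  obtain ⟨j, G, ⟨s, hs⟩, hxG, hGV, -⟩ := Amp.exists_hasSec_le hLa (x := x')
    (V := ⟨{z}ᶜ, hzc.isOpen_compl⟩) (fun hx => hzne (Set.mem_singleton_iff.1 hx).symm)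
  have hfx : ∀ c : C.left, f c = φ.left (i.left c) := fun c => by
    show (i ≫ φ).left c = _
    rw [Over.comp_left, Scheme.Hom.comp_apply]
  let e0 := (PicLoc.pullbackStructureIso f).symm
  have hgl := Amp.genLocus_pullback f (M2.isInvertible_tensorPow hLa.1 (j + 1)) s e0
  rw [hs] at hgl
  have hp := deg_pos_of_section hC (PicLoc.isInvertible_pullback f (M2.isInvertible_tensorPow hLa.1 (j + 1)))
    (e0.hom ≫ (Scheme.Modules.pullback f).map s) (x := x₀) (y := c₁)
    (by rw [hgl]; show f x₀ ∈ G; rw [hfx, hx₀]; exact hxG)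
    (by
      rw [hgl]; show f c₁ ∉ G
      rw [hfx, hc₁, hy₁z]
      exact fun hzG => hGV hzG rfl)
  rw [CurveCoh17.deg_iso (M2.pullTensorPowIso f L (j + 1)), hC.deg_tensorPow hM] at hp
  exact pos_of_mul_pos_right hp (by positivity)

/-- A homomorphism divisible by all powers of `l` is trivial. -/
theorem eq_one_of_divisible [IsAlgClosed k] {l : ℕ} (hl : 1 < l) (φ : A ⟶ B) [IsMonHom φ]
    (h : ∀ n : ℕ, ∃ ψ : A ⟶ B, IsMonHom ψ ∧ φ = (𝟙 A ^ (l ^ n)) ≫ ψ) : φ = 1 := by
  by_contra hne
  obtain ⟨L, hLa, hsym⟩ := CubeField.exists_isAmple_symmetric B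
  obtain ⟨C, i, iC, pC, hC, hpos⟩ := exists_curve_deg_pos φ hne hLa
  haveI := iC
  haveI := pC
  letI : C.left.Over (Spec (CommRingCat.of k)) := ⟨C.hom⟩
  let f : C.left ⟶ B.left := (i ≫ φ).left
  let M := (Scheme.Modules.pullback f).obj L
  have hM : PicF.IsInvertible M := PicLoc.isInvertible_pullback f hLa.1
  have hdeg : ∀ n : ℕ, ∃ d : ℤ, Curv2.deg k C.left M 1 = ((l ^ n * l ^ n : ℕ) : ℤ) * d := by
    intro n
    obtain ⟨ψ, hψ, hφψ⟩ := h n
    haveI := hψ
    let N := (Scheme.Modules.pullback (i ≫ ψ).left).obj L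
    have hN : PicF.IsInvertible N := PicLoc.isInvertible_pullback _ hLa.1
    have h1 : CubeField.P L hLa.1 (i ≫ φ) = CubeField.P L hLa.1 (i ≫ ψ) ^ (l ^ n * l ^ n) := by
      rw [hφψ, map_pow, Category.id_comp, MonObj.comp_pow, P_pow_symm hLa.1 hsym]
    have h2 := congrArg Subtype.val h1
    rw [CubeField.P, CubeField.P, PicGrp.cls_val, PicGrp.cls_pow_val] at h2
    obtain ⟨e2⟩ := (PicGrp.cl_eq_cl_iff _ _).1 h2
    exact ⟨_, (CurveCoh17.deg_iso e2).trans (hC.deg_tensorPow hN _)⟩
  obtain ⟨n, hn⟩ : ∃ n : ℕ, Curv2.deg k C.left M 1 < ((l ^ n * l ^ n : ℕ) : ℤ) := by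
    refine ⟨(Curv2.deg k C.left M 1).toNat, ?_⟩
    have h1 := Nat.lt_pow_self (n := (Curv2.deg k C.left M 1).toNat) hl
    have h2 : (Curv2.deg k C.left M 1).toNat < l ^ (Curv2.deg k C.left M 1).toNat * l ^ (Curv2.deg k C.left M 1).toNat :=
      lt_of_lt_of_le h1 (Nat.le_mul_of_pos_left _ (Nat.pow_pos (by omega)))
    omega
  obtain ⟨d, hd'⟩ := hdeg n
  have hm : (0 : ℤ) < ((l ^ n * l ^ n : ℕ) : ℤ) := lt_trans hpos hn
  rcases le_or_gt d 0 with hd0 | hd0
  · exact absurd hpos (not_lt.2 (hd' ▸ mul_nonpos_of_nonneg_of_nonpos hm.le hd0))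
  · exact absurd hn (not_lt.2 (hd' ▸ le_mul_of_one_le_right hm.le hd0))

end Groth.Agent.TateTors22
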