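import Groth.Agent.Lib.TateTors22.Basic

/-!
# Torsion points with values in an algebraically closed extension
-/

universe u

open CategoryTheory Limits AlgebraicGeometry MonoidalCategory CartesianMonoidalCategory MonObj
open scoped GrpObj

set_option linter.style.haveILetI false
set_option backward.isDefEq.respectTransparency false

namespace Groth.Agent.TateTors22

variable {k : Type u} [Field k] (K : Type u) [Field K] [Algebra k K] [IsAlgClosed K]
  {A B : Over (Spec (CommRingCat.of k))}
  [GrpObj A] [IsCommMonObj A] [IsProper A.hom] [GeometricallyIntegral A.hom]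

/-- `K`-points are divisible by integers invertible in `k`. -/
theorem exists_pow_eq_ext {n : ℕ} (hn : (n : k) ≠ 0)
    (b : Over.mk (Spec.map (CommRingCat.ofHom (algebraMap k K))) ⟶ A) :
    ∃ a : Over.mk (Spec.map (CommRingCat.ofHom (algebraMap k K))) ⟶ A, a ^ n = b := by
  obtain ⟨hf, -, hs⟩ := mul_props (A := A) hn
  let F : A.left ⟶ A.left := (𝟙 A ^ n).left
  haveI : IsFinite F := hf
  haveI : Surjective F := hs
  let bl : Spec (CommRingCat.of K) ⟶ A.left := b.left
  let P := pullback F bl
  haveI : IsFinite (pullback.snd F bl) := MorphismProperty.pullback_snd _ _ hf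
  haveI : Surjective (pullback.snd F bl) := MorphismProperty.pullback_snd _ _ hs
  obtain ⟨w, -⟩ := (pullback.snd F bl).surjective (IsLocalRing.closedPoint K)
  haveI : Nonempty P := ⟨w⟩
  haveI : CompactSpace P := QuasiCompact.compactSpace_of_compactSpace (pullback.snd F bl)
  obtain ⟨z, -, hzc⟩ := isClosed_univ.exists_closed_singleton (S := (Set.univ : Set P)) Set.univ_nonempty
  let σ := pointOfClosedPoint (pullback.snd F bl) z hzc
  have hσ : σ ≫ pullback.snd F bl = 𝟙 _ := pointOfClosedPoint_comp _ z hzc
  have h1 : (σ ≫ pullback.fst F bl) ≫ F = bl := by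
    rw [Category.assoc, pullback.condition, ← Category.assoc, hσ, Category.id_comp]
  have h2 : (σ ≫ pullback.fst F bl) ≫ A.hom = Spec.map (CommRingCat.ofHom (algebraMap k K)) := by
    have : F ≫ A.hom = A.hom := Over.w (𝟙 A ^ n)
    rw [← this, ← Category.assoc, h1]
    exact Over.w b
  refine ⟨Over.homMk (σ ≫ pullback.fst F bl) h2, ?_⟩
  rw [← comp_pow_id]
  ext1
  exact h1

variable (l : ℕ) [Fact l.Prime]

/-- Torsion `K`-points lift to the Tate module. -/
theorem exists_tateMod_ext (hl : (l : k) ≠ 0) {n : ℕ}
    (x : Over.mk (Spec.map (CommRingCat.ofHom (algebraMap k K))) ⟶ A) (hx : x ^ (l ^ n) = 1) :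
    ∃ z : AbDual.TateMod A l (Over.mk (Spec.map (CommRingCat.ofHom (algebraMap k K)))),
      ((z : ℕ → Additive (Over.mk (Spec.map (CommRingCat.ofHom (algebraMap k K))) ⟶ A)) n).toMul = x := by
  choose r hr using fun b => exists_pow_eq_ext K (A := A) hl b
  let s : ℕ → (Over.mk (Spec.map (CommRingCat.ofHom (algebraMap k K))) ⟶ A) := fun m =>
    if m ≤ n then x ^ (l ^ (n - m)) else r^[m - n] x
  have hsn : s n = x := by simp [s]
  have hstep : ∀ m, s (m + 1) ^ l = s m := fun m => by
    by_cases h : m + 1 ≤ n
    · simp only [s, if_pos h, if_pos (Nat.le_of_succ_le h)]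
      rw [← pow_mul, ← pow_succ]
      congr 2
      omega
    · by_cases h' : m ≤ n
      · obtain rfl : m = n := by omega
        simp [s, hr]
      · simp only [s, if_neg h, if_neg h']
        rw [show m + 1 - n = (m - n) + 1 by omega, Function.iterate_succ_apply', hr]
  have htors : ∀ m, s m ^ (l ^ m) = 1 := fun m => by
    induction m with
    | zero =>
      simp [s, hx]
    | succ m ih => rw [pow_succ', pow_mul, hstep, ih]
  exact ⟨⟨fun m => Additive.ofMul (s m),
    ⟨fun m => congrArg Additive.ofMul (htors m), fun m => congrArg Additive.ofMul (hstep m)⟩⟩, hsn⟩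

/-- A map out of a finite étale scheme is determined by its values on geometric points. -/
theorem eq_of_ext_points {N Z : Over (Spec (CommRingCat.of k))} [IsFinite N.hom] [Etale N.hom]
    [IsSeparated Z.hom] (f g : N ⟶ Z)
    (h : ∀ y : Over.mk (Spec.map (CommRingCat.ofHom (algebraMap k K))) ⟶ N, y ≫ f = y ≫ g) : f = g := by
  haveI : IsReduced N.left := AbRigid.isReduced_of_smooth_over_field N.hom
  ext1
  haveI : JacobsonSpace N.left := LocallyOfFiniteType.jacobsonSpace N.hom
  refine ext_of_fromSpecResidueField_eq f.left g.left Z.hom (closedPoints N.left) ?_ (fun z hz => ?_)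
    ((Over.w f).trans (Over.w g).symm)
  · rw [dense_iff_closure_eq]
    exact closure_closedPoints
  let φ := Spec.preimage (N.left.fromSpecResidueField z ≫ N.hom)
  have hφ : Spec.map φ = N.left.fromSpecResidueField z ≫ N.hom := Spec.map_preimage _
  letI : Algebra k (N.left.residueField z) := φ.hom.toAlgebra
  haveI : IsClosedImmersion (N.left.fromSpecResidueField z) := isClosed_singleton_iff_isClosedImmersion.1 hz
  haveI : IsFinite (N.left.fromSpecResidueField z) :=
    ((IsClosedImmersion.iff_isFinite_and_mono _).mp inferInstance).1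
  have hfin : IsFinite (Spec.map φ) := by rw [hφ]; infer_instance
  rw [IsFinite.SpecMap_iff] at hfin
  haveI : Module.Finite k (N.left.residueField z) := hfin
  let e : N.left.residueField z →ₐ[k] K := IsAlgClosed.lift
  let j : Spec (CommRingCat.of K) ⟶ Spec (N.left.residueField z) := Spec.map (CommRingCat.ofHom e.toRingHom)
  let y : Over.mk (Spec.map (CommRingCat.ofHom (algebraMap k K))) ⟶ N :=
    Over.homMk (j ≫ N.left.fromSpecResidueField z) (by
      show (j ≫ N.left.fromSpecResidueField z) ≫ N.hom = Spec.map (CommRingCat.ofHom (algebraMap k K))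
      rw [Category.assoc, ← hφ, ← Spec.map_comp]
      congr 1
      ext c
      exact e.commutes c)
  haveI : Epi j := by
    haveI : Surjective j := ⟨fun w => ⟨IsLocalRing.closedPoint K, Subsingleton.elim (α := Spec (N.left.residueField z)) _ _⟩⟩
    haveI : QuasiCompact j := inferInstance
    haveI : Flat j := inferInstance
    exact inferInstance
  rw [← cancel_epi j, ← Category.assoc, ← Category.assoc]
  exact congrArg (fun a : _ ⟶ Z => a.left) (h y)

variable [GrpObj B] [IsCommMonObj B]

/-- A homomorphism killing the `n`-torsion points with values in `K` factors through multiplication by `n`. -/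
theorem exists_factor_ext [IsSeparated B.hom] [LocallyOfFiniteType B.hom] {n : ℕ} (hn : (n : k) ≠ 0)
    (φ : A ⟶ B) [IsMonHom φ]
    (h : ∀ x : Over.mk (Spec.map (CommRingCat.ofHom (algebraMap k K))) ⟶ A, x ^ n = 1 → x ≫ φ = 1) :
    ∃ φ' : A ⟶ B, IsMonHom φ' ∧ φ = (𝟙 A ^ n) ≫ φ' := by
  obtain ⟨hf, he, hs⟩ := mul_props (A := A) hn
  haveI := isMonHom_pow (A := A) n
  let f := 𝟙 A ^ n
  haveI : IsFinite f.left := hf
  haveI : Etale f.left := he
  haveI : Surjective f.left := hs
  let N : Over (Spec (CommRingCat.of k)) := Over.mk (pullback.snd f.left η[A].left)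
  let i : N ⟶ A := Over.homMk (pullback.fst f.left η[A].left) (by
    show pullback.fst f.left η[A].left ≫ A.hom = pullback.snd _ _
    rw [← Over.w f, pullback.condition_assoc, Over.w η[A]]
    exact Category.comp_id _)
  have hN : AlgGrp.IsKernel i f := by
    refine IsPullback.of_map (Over.forget _) ?_ ?_
    · ext1
      simp [i, N, pullback.condition]
    · simpa [N, i] using IsPullback.of_hasPullback f.left η[A].left
  haveI : Etale N.hom := MorphismProperty.pullback_snd _ _ ‹Etale f.left›
  haveI : IsFinite N.hom := MorphismProperty.pullback_snd _ _ ‹IsFinite f.left›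
  have hi : i ≫ φ = 1 := by
    refine eq_of_ext_points K _ _ fun y => ?_
    rw [MonObj.comp_one, ← Category.assoc]
    refine h _ ?_
    rw [← comp_pow_id, Category.assoc, hN.w, ← Category.assoc, toUnit_unique (y ≫ toUnit N) (toUnit _), ← Hom.one_def]
  obtain ⟨r, hr, -⟩ := AbRigid.existsUnique_factor f i hN φ hi
  refine ⟨r, isMonHom_of_pow_comp hn r ?_, hr.symm⟩
  rw [hr]
  infer_instance

end Groth.Agent.TateTors22
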