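import Groth.Agent.Lib.TateTors22.Divisible
import Groth.Agent.Lib.TateTors22.GenField
import Mathlib.AlgebraicGeometry.Group.Abelian

/-!
# Descent of triviality to the ground field
-/

universe u

open CategoryTheory Limits AlgebraicGeometry MonoidalCategory CartesianMonoidalCategory MonObj
open scoped GrpObj

set_option linter.style.haveILetI false
set_option backward.isDefEq.respectTransparency false

namespace Groth.Agent.TateTors22

open scoped Obj in
theorem map_mul_pow {C D : Type*} [Category C] [Category D] [CartesianMonoidalCategory C]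
    [CartesianMonoidalCategory D] (F : C ⥤ D) [F.Monoidal] {X M : C} [GrpObj M] (f : X ⟶ M) (n : ℕ) :
    letI : GrpObj (F.obj M) := Functor.grpObjObj
    F.map (f ^ n) = F.map f ^ n := by
  letI : GrpObj (F.obj M) := Functor.grpObjObj
  induction n with
  | zero => rw [pow_zero, pow_zero]; exact F.map_one
  | succ n ih => rw [pow_succ, pow_succ]; exact (F.map_mul _ _).trans (by rw [ih])

variable {k : Type u} [Field k] {A B : Over (Spec (CommRingCat.of k))}
  [GrpObj A] [IsCommMonObj A] [IsProper A.hom] [GeometricallyIntegral A.hom]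
  [GrpObj B] [IsCommMonObj B] [IsProper B.hom] [GeometricallyIntegral B.hom]

/-- Base change along a field extension is faithful. -/
theorem map_injective_field (K : Type u) [Field K] [Algebra k K] {X Y : Over (Spec (CommRingCat.of k))}
    (f g : X ⟶ Y)
    (h : (Over.pullback (Spec.map (CommRingCat.ofHom (algebraMap k K)))).map f =
      (Over.pullback (Spec.map (CommRingCat.ofHom (algebraMap k K)))).map g) : f = g := by
  let s := Spec.map (CommRingCat.ofHom (algebraMap k K))
  haveI : Surjective s :=
    ⟨fun x => ⟨IsLocalRing.closedPoint K, Subsingleton.elim (α := Spec (CommRingCat.of k)) _ _⟩⟩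
  haveI : Flat s := inferInstance
  haveI : QuasiCompact s := inferInstance
  let p : pullback X.hom s ⟶ X.left := pullback.fst X.hom s
  haveI : Flat p := inferInstanceAs (Flat (pullback.fst X.hom s))
  haveI : Surjective p := MorphismProperty.pullback_fst _ _ ‹Surjective s›
  haveI : QuasiCompact p := inferInstanceAs (QuasiCompact (pullback.fst X.hom s))
  have h1 := congrArg (fun q => q.left ≫ pullback.fst Y.hom s) h
  simp only [Over.pullback_map_left, pullback.lift_fst, s] at h1
  ext1
  exact (cancel_epi p).1 h1

/-- A homomorphism divisible by all powers of `l` is trivial, over any field. -/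
theorem eq_one_of_divisible_field {l : ℕ} (hl : 1 < l) (φ : A ⟶ B) [IsMonHom φ]
    (h : ∀ n : ℕ, ∃ ψ : A ⟶ B, IsMonHom ψ ∧ φ = (𝟙 A ^ (l ^ n)) ≫ ψ) : φ = 1 := by
  let K := AlgebraicClosure k
  let s := Spec.map (CommRingCat.ofHom (algebraMap k K))
  let F := Over.pullback s
  letI gA : GrpObj (F.obj A) := Functor.grpObjObj
  letI gB : GrpObj (F.obj B) := Functor.grpObjObj
  haveI : IsProper (F.obj A).hom := inferInstanceAs (IsProper (pullback.snd A.hom s))
  haveI : IsProper (F.obj B).hom := inferInstanceAs (IsProper (pullback.snd B.hom s))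
  haveI : GeometricallyIntegral (F.obj A).hom := inferInstanceAs (GeometricallyIntegral (pullback.snd A.hom s))
  haveI : GeometricallyIntegral (F.obj B).hom := inferInstanceAs (GeometricallyIntegral (pullback.snd B.hom s))
  haveI : IsCommMonObj (F.obj A) := isCommMonObj_of_isProper_of_geometricallyIntegral _
  haveI : IsCommMonObj (F.obj B) := isCommMonObj_of_isProper_of_geometricallyIntegral _
  haveI : IsMonHom (F.map φ) := inferInstance
  refine map_injective_field K φ 1 ((eq_one_of_divisible (k := K) hl (F.map φ) fun n => ?_).trans F.map_one.symm)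
  obtain ⟨ψ, hψ, e⟩ := h n
  haveI := hψ
  refine ⟨F.map ψ, inferInstance, ?_⟩
  rw [e, Functor.map_comp, map_mul_pow, CategoryTheory.Functor.map_id]

variable (K : Type u) [Field K] [Algebra k K] [IsAlgClosed K]

/-- A homomorphism acting trivially on `l`-power torsion points is trivial. -/
theorem eq_one_of_kills_torsion {l : ℕ} [Fact l.Prime] (hl : (l : k) ≠ 0) (φ : A ⟶ B) [IsMonHom φ]
    (h : AbDual.tateMapₗ (l := l) (T := Over.mk (Spec.map (CommRingCat.ofHom (algebraMap k K)))) φ = 0) :
    φ = 1 := by
  refine eq_one_of_divisible_field (l := l) (Fact.out : l.Prime).one_lt φ fun n => ?_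
  refine exists_factor_ext K (n := l ^ n) (by rw [Nat.cast_pow]; exact pow_ne_zero _ hl) φ fun x hx => ?_
  obtain ⟨z, hz⟩ := exists_tateMod_ext K (A := A) l hl (n := n) x hx
  have h1 := congrArg (fun w => AbDual.TateMod.component B l
    (Over.mk (Spec.map (CommRingCat.ofHom (algebraMap k K)))) n w) (LinearMap.congr_fun h z)
  refine Eq.trans ?_ (congrArg Additive.toMul h1)
  show x ≫ φ = _
  rw [← hz]
  rfl

end Groth.Agent.TateTors22
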