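import Groth.Agent.Lib.TateTors22.TateRank

/-!
# The structure of the prime-to-`p` torsion
-/

universe u

open CategoryTheory Limits AlgebraicGeometry MonoidalCategory CartesianMonoidalCategory MonObj
open scoped GrpObj

set_option linter.style.haveILetI false
set_option backward.isDefEq.respectTransparency false

namespace Groth.Agent.TateTors22

section Group

variable {M : Type*} [CommGroup M] {r : ℕ}

/-- The elements killed by `n` are generated by `r` of them. -/
def Gen (M : Type*) [CommGroup M] (r n : ℕ) : Prop :=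
  ∃ g : Fin r → M, (∀ i, g i ^ n = 1) ∧ ∀ x : M, x ^ n = 1 → ∃ c : Fin r → ℕ, x = ∏ i, g i ^ c i

theorem gen_one : Gen M r 1 :=
  ⟨fun _ => 1, fun _ => _root_.one_pow _, fun x hx => ⟨fun _ => 0, by simpa using hx⟩⟩

theorem gen_mul {a b : ℕ} (hab : a.Coprime b) (ha : Gen M r a) (hb : Gen M r b) : Gen M r (a * b) := by
  obtain ⟨f, hf, hfg⟩ := ha
  obtain ⟨g, hg, hgg⟩ := hb
  obtain ⟨u, hua, hub⟩ := Nat.chineseRemainder hab 1 0
  obtain ⟨v, hva, hvb⟩ := Nat.chineseRemainder hab 0 1
  refine ⟨fun i => f i * g i, fun i => ?_, fun x hx => ?_⟩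
  · rw [_root_.mul_pow, pow_mul, hf, _root_.one_pow, mul_comm a b, pow_mul, hg, _root_.one_pow, _root_.one_mul]
  · have hu : (x ^ u) ^ a = 1 := by
      obtain ⟨w, rfl⟩ := Nat.modEq_zero_iff_dvd.1 hub
      rw [← pow_mul, show b * w * a = a * b * w by ring, pow_mul, hx, _root_.one_pow]
    have hv : (x ^ v) ^ b = 1 := by
      obtain ⟨w, rfl⟩ := Nat.modEq_zero_iff_dvd.1 hva
      rw [← pow_mul, show a * w * b = a * b * w by ring, pow_mul, hx, _root_.one_pow]
    have hsum : x ^ u * x ^ v = x := by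
      have h1 : u + v ≡ 1 [MOD a * b] :=
        (Nat.modEq_and_modEq_iff_modEq_mul hab).1 ⟨by simpa using hua.add hva, by simpa using hub.add hvb⟩
      rw [← pow_add, pow_eq_pow_mod (u + v) hx, show (u + v) % (a * b) = 1 % (a * b) from h1,
        ← pow_eq_pow_mod 1 hx, pow_one]
    obtain ⟨c, hc⟩ := hfg _ hu
    obtain ⟨d, hd⟩ := hgg _ hv
    refine ⟨fun i => (Nat.chineseRemainder hab (c i) (d i) : ℕ), ?_⟩
    rw [← hsum, hc, hd, ← Finset.prod_mul_distrib]
    refine Finset.prod_congr rfl fun i _ => ?_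
    rw [_root_.mul_pow, pow_eq_pow_mod (c i) (hf i), pow_eq_pow_mod (d i) (hg i),
      pow_eq_pow_mod (Nat.chineseRemainder hab (c i) (d i) : ℕ) (hf i),
      pow_eq_pow_mod (Nat.chineseRemainder hab (c i) (d i) : ℕ) (hg i)]
    rw [show (Nat.chineseRemainder hab (c i) (d i) : ℕ) % a = c i % a from (Nat.chineseRemainder hab _ _).2.1,
      show (Nat.chineseRemainder hab (c i) (d i) : ℕ) % b = d i % b from (Nat.chineseRemainder hab _ _).2.2]

/-- A generated torsion group of the maximal order is `(ℤ/n) ^ r`. -/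
theorem nonempty_mulEquiv {n : ℕ} (hn : 0 < n) (h : Gen M r n)
    (hcard : Nat.card (powMonoidHom n : M →* M).ker = n ^ r) :
    Nonempty ((powMonoidHom n : M →* M).ker ≃* Multiplicative (Fin r → ZMod n)) := by
  haveI : NeZero n := ⟨hn.ne'⟩
  obtain ⟨g, hg, hgen⟩ := h
  let φ : Multiplicative (Fin r → ZMod n) →* (powMonoidHom n : M →* M).ker :=
    { toFun := fun c => ⟨∏ i, g i ^ (c.toAdd i).val, by
        rw [MonoidHom.mem_ker, powMonoidHom_apply, ← Finset.prod_pow]
        exact Finset.prod_eq_one fun i _ => by rw [← pow_mul, mul_comm, pow_mul, hg, _root_.one_pow]⟩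
      map_one' := Subtype.ext (by
        show ∏ i, g i ^ ((1 : Multiplicative (Fin r → ZMod n)).toAdd i).val = 1
        exact Finset.prod_eq_one fun i _ => by rw [toAdd_one, Pi.zero_apply, ZMod.val_zero, pow_zero])
      map_mul' := fun c d => Subtype.ext (by
        show ∏ i, g i ^ (((c * d).toAdd i)).val = (∏ i, g i ^ (c.toAdd i).val) * ∏ i, g i ^ (d.toAdd i).val
        rw [← Finset.prod_mul_distrib]
        refine Finset.prod_congr rfl fun i _ => ?_
        rw [toAdd_mul, Pi.add_apply, ZMod.val_add, ← pow_eq_pow_mod _ (hg i), pow_add]) }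
  have hsurj : Function.Surjective φ := fun x => by
    obtain ⟨c, hc⟩ := hgen x.1 x.2
    refine ⟨Multiplicative.ofAdd fun i => (c i : ZMod n), Subtype.ext ?_⟩
    rw [hc]
    show ∏ i, g i ^ ((c i : ZMod n)).val = _
    refine Finset.prod_congr rfl fun i _ => ?_
    rw [ZMod.val_natCast, ← pow_eq_pow_mod _ (hg i)]
  have hc : Nat.card (Multiplicative (Fin r → ZMod n)) = Nat.card (powMonoidHom n : M →* M).ker := by
    rw [hcard, Nat.card_congr Multiplicative.toAdd, Nat.card_fun, Nat.card_zmod, Nat.card_fin]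
  exact ⟨(MulEquiv.ofBijective φ (hsurj.bijective_of_nat_card_le hc.le)).symm⟩

end Group

variable {k : Type u} [Field k] {A : Over (Spec (CommRingCat.of k))}
  [GrpObj A] [IsCommMonObj A] [IsProper A.hom] [GeometricallyIntegral A.hom]
  (K : Type u) [Field K] [Algebra k K] [IsAlgClosed K]

/-- The `l`-power torsion is generated by `2 g` points. -/
theorem gen_prime_pow {g : ℕ} (hg : topologicalKrullDim A.left = g) (l : ℕ) [Fact l.Prime] (hl : (l : k) ≠ 0)
    (e : ℕ) : Gen (SGA7.pt (K := k) K ⟶ A) (2 * g) (l ^ e) := by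
  classical
  haveI := finite_tateMod (A := A) K l hl
  haveI := free_tateMod (A := A) K l hl
  let b := Module.finBasisOfFinrankEq ℤ_[l] (AbDual.TateMod A l (SGA7.pt (K := k) K)) (finrank_tateMod K l hl hg)
  let π : AbDual.TateMod A l (SGA7.pt (K := k) K) →+ Additive (SGA7.pt (K := k) K ⟶ A) :=
    AbDual.TateMod.component A l (SGA7.pt (K := k) K) e
  refine ⟨fun i => (π (b i)).toMul, fun i => (b i).2.1 e, fun x hx => ?_⟩
  obtain ⟨z, hz⟩ := exists_tateMod_ext K (A := A) l hl (n := e) x hx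
  refine ⟨fun i => (b.repr z i).appr e, ?_⟩
  have h1 : π z = ∑ i, (b.repr z i).appr e • π (b i) := by
    conv_lhs => rw [← b.sum_repr z]
    rw [map_sum]
    rfl
  rw [← hz]
  refine (congrArg Additive.toMul h1).trans ?_
  rw [toMul_sum]
  rfl

/-- The torsion killed by an invertible `n` is generated by `2 g` points. -/
theorem gen_of_ne_zero {g : ℕ} (hg : topologicalKrullDim A.left = g) (n : ℕ) :
    (n : k) ≠ 0 → Gen (SGA7.pt (K := k) K ⟶ A) (2 * g) n := by
  induction n using Nat.recOnPosPrimePosCoprime with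
  | zero => exact fun h => (h Nat.cast_zero).elim
  | one => exact fun _ => gen_one
  | prime_pow p e hp he =>
    intro h
    haveI : Fact p.Prime := ⟨hp⟩
    exact gen_prime_pow K hg p (fun h0 => h (by rw [Nat.cast_pow, h0, zero_pow he.ne'])) e
  | coprime a b _ _ hab iha ihb =>
    intro h
    rw [Nat.cast_mul] at h
    exact gen_mul hab (iha (left_ne_zero_of_mul h)) (ihb (right_ne_zero_of_mul h))

/-- `A[n](K)` is `(ℤ/n) ^ (2 g)`. -/
theorem nonempty_torsPts_mulEquiv {g : ℕ} (hg : topologicalKrullDim A.left = g) {n : ℕ} (hn : (n : k) ≠ 0) :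
    Nonempty (AbDual.torsPts A n (SGA7.pt (K := k) K) ≃* Multiplicative (Fin (2 * g) → ZMod n)) := by
  haveI : IsIntegral A.left := GeometricallyIntegral.isIntegral_of_subsingleton A.hom
  exact nonempty_mulEquiv (Nat.pos_of_ne_zero fun h => hn (by rw [h, Nat.cast_zero]))
    (gen_of_ne_zero K hg n hn) (AVDegree22.card_tors A K hg hn)

/-- `A[n](k)` is `(ℤ/n) ^ (2 g)` for an algebraically closed ground field. -/
theorem nonempty_torsPts_mulEquiv_self [IsAlgClosed k] {g : ℕ} (hg : topologicalKrullDim A.left = g) {n : ℕ}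
    (hn : (n : k) ≠ 0) :
    Nonempty (AbDual.torsPts A n (Over.mk (𝟙 (Spec (CommRingCat.of k)))) ≃* Multiplicative (Fin (2 * g) → ZMod n)) := by
  have key : ∀ (t : Spec (CommRingCat.of k) ⟶ Spec (CommRingCat.of k)),
      t = Spec.map (CommRingCat.ofHom (algebraMap k k)) →
      Nonempty (AbDual.torsPts A n (Over.mk t) ≃* Multiplicative (Fin (2 * g) → ZMod n)) := by
    rintro t rfl
    exact nonempty_torsPts_mulEquiv k hg hn
  exact key _ (Spec.map_id _).symm

end Groth.Agent.TateTors22
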