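import Groth.Prelude.Def_AbDual
import Groth.Agent.Lib.AbRigid.FactorEtale
import Groth.Agent.Lib.RigidRel.MulEtale
import Groth.Agent.Lib.CubeField.Product
import Mathlib.AlgebraicGeometry.AlgClosed.Basic

/-!
# Torsion points of abelian varieties over algebraically closed fields
-/

universe u

open CategoryTheory Limits AlgebraicGeometry MonoidalCategory CartesianMonoidalCategory MonObj
open scoped GrpObj

set_option linter.style.haveILetI false
set_option backward.isDefEq.respectTransparency false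

namespace Groth.Agent.TateTors22

variable {k : Type u} [Field k] {A B : Over (Spec (CommRingCat.of k))}
  [GrpObj A] [IsCommMonObj A] [IsProper A.hom] [GeometricallyIntegral A.hom]

theorem mul_props {n : ℕ} (hn : (n : k) ≠ 0) :
    IsFinite (𝟙 A ^ n).left ∧ Etale (𝟙 A ^ n).left ∧ Surjective (𝟙 A ^ n).left := by
  haveI := CubeField.geometricallyConnected_of_irreducible A.hom
  have hu : IsUnit ((n : ℤ) : Γ(Spec (CommRingCat.of k), ⊤)) := by
    rw [Int.cast_natCast, ← map_natCast (Scheme.ΓSpecIso (CommRingCat.of k)).inv.hom n]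
    exact (isUnit_iff_ne_zero.2 hn).map _
  have h := MulEtale.isFinite_and_etale_zpow (X := A) (n : ℤ) hu
  rwa [zpow_natCast] at h

theorem isMonHom_pow (n : ℕ) : IsMonHom (𝟙 A ^ n) := by
  refine ⟨?_, ?_⟩
  · rw [MonObj.comp_pow, Category.comp_id, one_eq_one, one_pow]
  · rw [MonObj.comp_pow, Category.comp_id, ← lift_fst_comp_snd_comp, ← Hom.mul_def, MonObj.comp_pow,
      MonObj.comp_pow, Category.comp_id, Category.comp_id, ← mul_pow]
    congr 1
    rw [Hom.mul_def, lift_fst_snd, Category.id_comp]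

theorem comp_pow_id {T : Over (Spec (CommRingCat.of k))} (x : T ⟶ A) (n : ℕ) : x ≫ (𝟙 A ^ n) = x ^ n := by
  rw [MonObj.comp_pow, Category.comp_id]

/-- `k`-points are divisible by integers invertible in `k`. -/
theorem exists_pow_eq [IsAlgClosed k] {n : ℕ} (hn : (n : k) ≠ 0) (b : 𝟙_ (Over (Spec (CommRingCat.of k))) ⟶ A) :
    ∃ a : 𝟙_ (Over (Spec (CommRingCat.of k))) ⟶ A, a ^ n = b := by
  obtain ⟨hf, -, hs⟩ := mul_props (A := A) hn
  let F : A.left ⟶ A.left := (𝟙 A ^ n).left
  haveI : IsFinite F := hf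
  haveI : Surjective F := hs
  let bl : Spec (CommRingCat.of k) ⟶ A.left := b.left
  let P := pullback F bl
  haveI : IsFinite (pullback.snd F bl) := MorphismProperty.pullback_snd _ _ hf
  haveI : Surjective (pullback.snd F bl) := MorphismProperty.pullback_snd _ _ hs
  obtain ⟨w, -⟩ := (pullback.snd F bl).surjective (IsLocalRing.closedPoint k)
  haveI : Nonempty P := ⟨w⟩
  haveI : CompactSpace P := QuasiCompact.compactSpace_of_compactSpace (pullback.snd F bl)
  obtain ⟨z, -, hzc⟩ := isClosed_univ.exists_closed_singleton (S := (Set.univ : Set P)) Set.univ_nonempty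
  let σ := pointOfClosedPoint (pullback.snd F bl) z hzc
  have hσ : σ ≫ pullback.snd F bl = 𝟙 _ := pointOfClosedPoint_comp _ z hzc
  have h1 : (σ ≫ pullback.fst F bl) ≫ F = bl := by
    rw [Category.assoc, pullback.condition, ← Category.assoc, hσ, Category.id_comp]
  have h2 : (σ ≫ pullback.fst F bl) ≫ A.hom = 𝟙 _ := by
    have : F ≫ A.hom = A.hom := Over.w (𝟙 A ^ n)
    rw [← this, ← Category.assoc, h1]
    exact Over.w b
  refine ⟨Over.homMk (σ ≫ pullback.fst F bl) h2, ?_⟩
  rw [← comp_pow_id]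
  ext1
  exact h1

variable (l : ℕ) [Fact l.Prime]

/-- Torsion points lift to the Tate module. -/
theorem exists_tateMod [IsAlgClosed k] (hl : (l : k) ≠ 0) {n : ℕ}
    (x : Over.mk (𝟙 (Spec (CommRingCat.of k))) ⟶ A) (hx : x ^ (l ^ n) = 1) :
    ∃ z : AbDual.TateMod A l (Over.mk (𝟙 (Spec (CommRingCat.of k)))),
      ((z : ℕ → Additive (Over.mk (𝟙 (Spec (CommRingCat.of k))) ⟶ A)) n).toMul = x := by
  have hdiv : ∀ b : Over.mk (𝟙 (Spec (CommRingCat.of k))) ⟶ A, ∃ a : Over.mk (𝟙 (Spec (CommRingCat.of k))) ⟶ A,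
      a ^ l = b := fun b => exists_pow_eq (A := A) hl b
  choose r hr using hdiv
  let s : ℕ → (Over.mk (𝟙 (Spec (CommRingCat.of k))) ⟶ A) := fun m =>
    if m ≤ n then x ^ (l ^ (n - m)) else r^[m - n] x
  have hsn : s n = x := by simp [s]
  have hstep : ∀ m, s (m + 1) ^ l = s m := fun m => by
    by_cases h : m + 1 ≤ n
    · simp only [s, if_pos h, if_pos (Nat.le_of_succ_le h)]
      rw [← pow_mul, ← pow_succ]
      congr 2
      omega
    · by_cases h' : m ≤ n
      · obtain rfl : m = n := by omega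
        simp [s, hr]
      · simp only [s, if_neg h, if_neg h']
        rw [show m + 1 - n = (m - n) + 1 by omega, Function.iterate_succ_apply', hr]
  have htors : ∀ m, s m ^ (l ^ m) = 1 := fun m => by
    induction m with
    | zero =>
      simp [s, hx]
    | succ m ih => rw [pow_succ', pow_mul, hstep, ih]
  exact ⟨⟨fun m => Additive.ofMul (s m),
    ⟨fun m => congrArg Additive.ofMul (htors m), fun m => congrArg Additive.ofMul (hstep m)⟩⟩, hsn⟩

variable [GrpObj B] [IsCommMonObj B]

theorem map_pow {T : Over (Spec (CommRingCat.of k))} (a : T ⟶ A) (φ : A ⟶ B) [IsMonHom φ] (m : ℕ) :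
    (a ^ m) ≫ φ = (a ≫ φ) ^ m := by
  induction m with
  | zero => rw [pow_zero, pow_zero, MonObj.one_comp]
  | succ m ih => rw [pow_succ, pow_succ, MonObj.mul_comp, ih]

/-- A morphism out of `A` is a homomorphism if its composite with multiplication by `n` is. -/
theorem isMonHom_of_pow_comp {n : ℕ} (hn : (n : k) ≠ 0) (r : A ⟶ B) (hφ : IsMonHom ((𝟙 A ^ n) ≫ r)) :
    IsMonHom r := by
  obtain ⟨hf, he, hs⟩ := mul_props (A := A) hn
  haveI := isMonHom_pow (A := A) n
  haveI := hf
  haveI := he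
  haveI := hs
  let f := 𝟙 A ^ n
  haveI : Flat f.left := inferInstance
  haveI hepi : Epi f := (Over.forget _).epi_of_epi_map (show Epi f.left from inferInstance)
  refine ⟨?_, ?_⟩
  · have h1 : η[A] ≫ f = η[A] := IsMonHom.one_hom f
    rw [← h1, Category.assoc]
    exact IsMonHom.one_hom ((𝟙 A ^ n) ≫ r)
  · haveI hes : Surjective (f ⊗ₘ f).left := by
      refine ⟨fun p => ?_⟩
      rw [MonoidalCategory.tensorHom_def, Over.comp_left]
      haveI : Surjective (f ▷ A).left := MorphismProperty.of_isPullback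
        ((AbRigid.isPullback_whiskerRight f A).map (Over.forget _)) ‹Surjective f.left›
      haveI : Surjective (A ◁ f).left := MorphismProperty.of_isPullback
        ((AbRigid.isPullback_whiskerLeft f A).map (Over.forget _)) ‹Surjective f.left›
      exact ((f ▷ A).left ≫ (A ◁ f).left).surjective p
    haveI hef : Flat (f ⊗ₘ f).left := by
      rw [MonoidalCategory.tensorHom_def, Over.comp_left]
      haveI : Flat (f ▷ A).left := MorphismProperty.of_isPullback
        ((AbRigid.isPullback_whiskerRight f A).map (Over.forget _)) ‹Flat f.left›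
      haveI : Flat (A ◁ f).left := MorphismProperty.of_isPullback
        ((AbRigid.isPullback_whiskerLeft f A).map (Over.forget _)) ‹Flat f.left›
      infer_instance
    haveI : IsProper (A ⊗ A).hom := by dsimp; infer_instance
    haveI : QuasiCompact ((f ⊗ₘ f).left ≫ (A ⊗ A).hom) := by rw [Over.w]; infer_instance
    haveI : QuasiCompact (f ⊗ₘ f).left := QuasiCompact.of_comp _ (A ⊗ A).hom
    haveI : Epi (f ⊗ₘ f) := (Over.forget _).epi_of_epi_map (show Epi (f ⊗ₘ f).left from inferInstance)
    rw [← cancel_epi (f ⊗ₘ f)]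
    have hm : μ[A] ≫ f = (f ⊗ₘ f) ≫ μ[A] := IsMonHom.mul_hom f
    rw [← Category.assoc, ← hm, Category.assoc]
    refine (IsMonHom.mul_hom (f ≫ r)).trans ?_
    rw [← Category.assoc, MonoidalCategory.tensorHom_comp_tensorHom]

/-- A homomorphism killing the `n`-torsion factors through multiplication by `n`. -/
theorem exists_factor [IsAlgClosed k] [IsSeparated B.hom] [LocallyOfFiniteType B.hom] {n : ℕ} (hn : (n : k) ≠ 0)
    (φ : A ⟶ B) [IsMonHom φ]
    (h : ∀ x : 𝟙_ (Over (Spec (CommRingCat.of k))) ⟶ A, x ^ n = 1 → x ≫ φ = 1) :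
    ∃ φ' : A ⟶ B, IsMonHom φ' ∧ φ = (𝟙 A ^ n) ≫ φ' := by
  obtain ⟨hf, he, hs⟩ := mul_props (A := A) hn
  haveI := isMonHom_pow (A := A) n
  haveI := hf
  haveI := he
  haveI := hs
  obtain ⟨r, hr, -⟩ := AbRigid.existsUnique_factor_of_points (𝟙 A ^ n) φ fun P hP => by
    rw [one_eq_one] at hP ⊢
    exact h P (by rw [← comp_pow_id, hP])
  refine ⟨r, isMonHom_of_pow_comp hn r (by rw [hr]; infer_instance), hr.symm⟩

end Groth.Agent.TateTors22
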