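import Groth.Agent.Lib.TateTors22.Divisible
import Groth.Agent.Lib.CubeField.Mumford22
import Groth.Prelude.Def_EndRing

/-!
# The symmetric forms on `Hom(A, B)` given by degrees on curves of `A`
-/

universe u

open CategoryTheory Limits AlgebraicGeometry MonoidalCategory CartesianMonoidalCategory MonObj
open scoped GrpObj

set_option linter.style.haveILetI false
set_option backward.isDefEq.respectTransparency false

namespace Groth.Agent.TateTors22

open CurveCoh17

noncomputable local instance instLawT22d (Y : Scheme.{u}) : PicGrp.Law Y := M2.law Y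

variable {k : Type u} [Field k]

section Degree

variable (k) (C : Scheme.{u}) [C.Over (Spec (CommRingCat.of k))]

/-- The degree of an invertible class on a curve. -/
noncomputable def degCl (c : PicLoc.PicSet C) : ℤ :=
  Curv2.deg k C (PicGrp.exists_eq_cls c).choose 1

theorem degCl_cls {M : C.Modules} (hM : PicF.IsInvertible M) :
    degCl k C (PicGrp.cls M hM) = Curv2.deg k C M 1 := by
  obtain ⟨h', e⟩ := (PicGrp.exists_eq_cls (PicGrp.cls M hM)).choose_spec
  exact deg_iso ((PicGrp.cls_eq_cls_iff hM h').1 e).some.symm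

variable {k C}

theorem degCl_mul (hC : CurveLike k C) (a b : PicLoc.PicSet C) :
    degCl k C (a * b) = degCl k C a + degCl k C b := by
  obtain ⟨M, hM, rfl⟩ := PicGrp.exists_eq_cls a
  obtain ⟨N, hN, rfl⟩ := PicGrp.exists_eq_cls b
  rw [show PicGrp.cls M hM * PicGrp.cls N hN = PicGrp.cls (CohB1.tensorMod M N) (M2.isInvertible_tensor hM hN)
    from Subtype.ext ((PicGrp.cls_mul_cls_val hM hN).trans rfl),
    degCl_cls, degCl_cls, degCl_cls, hC.deg_tensor_invertible hM hN]

theorem degCl_one : degCl k C 1 = 0 := by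
  rw [← PicGrp.cls_structureModule_eq_one, degCl_cls, deg_structureModule]

/-- An invertible module with a non-zero section has non-negative degree. -/
theorem deg_nonneg_of_section [IsIntegral C] (hC : CurveLike k C) {N : C.Modules} (hN : PicF.IsInvertible N)
    (s : Coh.structureModule C ⟶ N) {x : C} (hx : x ∈ CohB1.genLocus N s) : 0 ≤ Curv2.deg k C N 1 := by
  haveI := hC.noetherian
  let v : Γ(N, (⊤ : C.Opens)) := s.app ⊤ (M1.one ⊤)
  have hs : M1.secHom v = s := M1.unit_hom_ext (M1.secHom_app_one v)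
  have hv : v ≠ 0 := fun h0 => by
    rw [← hs, h0, Amp.genLocus_secHom_zero hN] at hx
    exact hx.elim
  obtain ⟨t, -, hχ, -, -, -, -⟩ := hC.section_numerics (rkOne_of_invertible hC.dim hN) hv
  rw [Curv2.deg, hχ]
  push_cast
  omega

end Degree

variable {A B : Over (Spec (CommRingCat.of k))}
  [GrpObj B] [IsProper B.hom] [GeometricallyIntegral B.hom]
  {L : B.left.Modules}

/-- The pullback of an ample module to an integral proper curve has non-negative degree. -/
theorem degCl_P_nonneg (hLa : CohB1.IsAmple L) (C : Over (Spec (CommRingCat.of k))) [IsIntegral C.left]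
    [IsProper C.hom] (hC : letI : C.left.Over (Spec (CommRingCat.of k)) := ⟨C.hom⟩; CurveLike k C.left)
    (g : C ⟶ B) :
    letI : C.left.Over (Spec (CommRingCat.of k)) := ⟨C.hom⟩
    0 ≤ degCl k C.left (CubeField.P L hLa.1 g) := by
  letI : C.left.Over (Spec (CommRingCat.of k)) := ⟨C.hom⟩
  let f : C.left ⟶ B.left := g.left
  obtain ⟨x₀⟩ : Nonempty C.left := inferInstance
  obtain ⟨j, G, ⟨s, hs⟩, hxG, -, -⟩ := Amp.exists_hasSec_le hLa (x := f x₀) (V := ⊤) trivial
  let e0 := (PicLoc.pullbackStructureIso f).symm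
  have hgl := Amp.genLocus_pullback f (M2.isInvertible_tensorPow hLa.1 (j + 1)) s e0
  rw [hs] at hgl
  have hp := deg_nonneg_of_section hC (PicLoc.isInvertible_pullback f (M2.isInvertible_tensorPow hLa.1 (j + 1)))
    (e0.hom ≫ (Scheme.Modules.pullback f).map s) (x := x₀) (by rw [hgl]; exact hxG)
  rw [CurveCoh17.deg_iso (M2.pullTensorPowIso f L (j + 1)), hC.deg_tensorPow (PicLoc.isInvertible_pullback f hLa.1)] at hp
  rw [CubeField.P, degCl_cls]
  exact nonneg_of_mul_nonneg_right hp (by positivity)

variable [GrpObj A] [IsProper A.hom] [GeometricallyIntegral A.hom]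

/-- An integral proper curve mapped to `A`. -/
structure CurveTo (A : Over (Spec (CommRingCat.of k))) : Type (u + 1) where
  src : Over (Spec (CommRingCat.of k))
  map : src ⟶ A
  [integral : IsIntegral src.left]
  [proper : IsProper src.hom]
  curve : letI : src.left.Over (Spec (CommRingCat.of k)) := ⟨src.hom⟩; CurveLike k src.left

variable [IsCommMonObj B]

variable (hL : PicF.IsInvertible L)

/-- The pairing `(f, g) ↦ deg (i ∘ (f, g))^* D`, `D` the Mumford bundle of `L`. -/
noncomputable def bForm (c : CurveTo A) (f g : A ⟶ B) : ℤ :=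
  letI : c.src.left.Over (Spec (CommRingCat.of k)) := ⟨c.src.hom⟩
  degCl k c.src.left (CubeField.D L hL (c.map ≫ f) (c.map ≫ g))

theorem bForm_comm (c : CurveTo A) (f g : A ⟶ B) : bForm hL c f g = bForm hL c g f := by
  rw [bForm, bForm, CubeField.D, CubeField.D, _root_.mul_comm (c.map ≫ f),
    _root_.mul_comm (CubeField.P L hL (c.map ≫ f))]

theorem bForm_mul_right (c : CurveTo A) (f g h : A ⟶ B) :
    bForm hL c f (g * h) = bForm hL c f g + bForm hL c f h := by
  letI : c.src.left.Over (Spec (CommRingCat.of k)) := ⟨c.src.hom⟩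
  rw [bForm, MonObj.comp_mul, CubeField.D_mul_right CubeField.finH1, degCl_mul c.curve]
  rfl

theorem bForm_mul_left (c : CurveTo A) (f g h : A ⟶ B) :
    bForm hL c (f * g) h = bForm hL c f h + bForm hL c g h := by
  rw [bForm_comm, bForm_mul_right, bForm_comm hL c h, bForm_comm hL c h]

theorem bForm_self (hsym : Nonempty (L ≅ (Scheme.Modules.pullback ((𝟙 B)⁻¹).left).obj L)) (c : CurveTo A)
    (f : A ⟶ B) :
    letI : c.src.left.Over (Spec (CommRingCat.of k)) := ⟨c.src.hom⟩
    bForm hL c f f = 2 * degCl k c.src.left (CubeField.P L hL (c.map ≫ f)) := by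
  letI : c.src.left.Over (Spec (CommRingCat.of k)) := ⟨c.src.hom⟩
  have hinv : CubeField.P L hL (𝟙 B)⁻¹ = CubeField.P L hL (𝟙 B) := by
    rw [CubeField.P_id]
    exact Subtype.ext ((PicGrp.cl_eq_cl_iff _ _).2 ⟨hsym.some.symm⟩)
  have h := congrArg (PicGrp.pullHom (c.map ≫ f).left (M2.pullMul _)) hinv
  rw [CubeField.pullHom_P, CubeField.pullHom_P, GrpObj.comp_inv, Category.comp_id] at h
  rw [bForm, CubeField.D_self CubeField.finH1, degCl_mul c.curve, h]
  ring

theorem bForm_self_nonneg (hLa : CohB1.IsAmple L)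
    (hsym : Nonempty (L ≅ (Scheme.Modules.pullback ((𝟙 B)⁻¹).left).obj L)) (c : CurveTo A) (f : A ⟶ B) :
    0 ≤ bForm hLa.1 c f f := by
  haveI := c.integral
  haveI := c.proper
  rw [bForm_self hLa.1 hsym]
  have := degCl_P_nonneg hLa c.src c.curve (c.map ≫ f)
  positivity

end Groth.Agent.TateTors22
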