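import Groth.Agent.Lib.TateTors22.TateFinite
import Mathlib.LinearAlgebra.Dimension.StrongRankCondition
import Mathlib.LinearAlgebra.FreeModule.Finite.Matrix

/-!
# `Hom(A, B)` is free of finite rank; its image on Tate modules is saturated
-/

universe u

open CategoryTheory Limits AlgebraicGeometry MonoidalCategory CartesianMonoidalCategory MonObj
open scoped GrpObj

set_option linter.style.haveILetI false
set_option backward.isDefEq.respectTransparency false

namespace Groth.Agent.TateTors22

variable {k : Type u} [Field k] {A B : Over (Spec (CommRingCat.of k))}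
  [GrpObj A] [IsCommMonObj A] [IsProper A.hom] [GeometricallyIntegral A.hom]
  [GrpObj B] [IsCommMonObj B] [IsProper B.hom] [GeometricallyIntegral B.hom]
  (K : Type u) [Field K] [Algebra k K] [IsAlgClosed K]
  (l : ℕ) [Fact l.Prime]

/-- Independent homomorphisms are at most as many as the product of the ranks of the Tate modules. -/
theorem card_le_of_linearIndependent (hl : (l : k) ≠ 0) {r : ℕ} (x : Fin r → EndAV.Hom A B)
    (hx : LinearIndependent ℤ x) :
    r ≤ Module.finrank ℤ_[l] (AbDual.TateMod A l (SGA7.pt (K := k) K)) *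
      Module.finrank ℤ_[l] (AbDual.TateMod B l (SGA7.pt (K := k) K)) := by
  haveI := finite_tateMod (A := A) K l hl
  haveI := finite_tateMod (A := B) K l hl
  haveI := free_tateMod (A := A) K l hl
  haveI := free_tateMod (A := B) K l hl
  have h := (linearIndependent_tateMap K l hl x hx).fintype_card_le_finrank
  rwa [Fintype.card_fin, Module.finrank_linearMap] at h

theorem exists_prime_ne_zero (k : Type*) [Field k] : ∃ l : ℕ, l.Prime ∧ (l : k) ≠ 0 := by
  by_cases h2 : ((2 : ℕ) : k) = 0
  · refine ⟨3, Nat.prime_three, fun h3 => one_ne_zero (α := k) ?_⟩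
    push_cast at h2 h3
    linear_combination h3 - h2
  · exact ⟨2, Nat.prime_two, h2⟩

/-- `Hom(A, B)` embeds in a finitely generated free group. -/
theorem exists_embedding : ∃ (m : ℕ) (Φ : EndAV.Hom A B →+ (Fin m → ℤ)), Function.Injective Φ := by
  classical
  obtain ⟨l, hlp, hl⟩ := exists_prime_ne_zero k
  haveI : Fact l.Prime := ⟨hlp⟩
  let K := AlgebraicClosure k
  let P : ℕ → Prop := fun r => ∃ x : Fin r → EndAV.Hom A B, LinearIndependent ℤ x
  let R := Module.finrank ℤ_[l] (AbDual.TateMod A l (SGA7.pt (K := k) K)) *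
    Module.finrank ℤ_[l] (AbDual.TateMod B l (SGA7.pt (K := k) K))
  have hb : ∀ r, P r → r ≤ R := fun r ⟨x, hx⟩ => card_le_of_linearIndependent K l hl x hx
  have hP0 : P 0 := ⟨Fin.elim0, linearIndependent_empty_type⟩
  obtain ⟨x, hx⟩ : P (Nat.findGreatest P R) := Nat.findGreatest_spec (Nat.zero_le R) hP0
  have hmax : ¬ P (Nat.findGreatest P R + 1) := fun h =>
    absurd h (Nat.findGreatest_is_greatest (Nat.lt_succ_self _) (hb _ h))
  let φ := (Fintype.linearCombination ℤ x).toAddMonoidHom
  have hφ : Function.Injective φ := LinearMap.ker_eq_bot.1 (LinearMap.ker_eq_bot'.2 fun a ha => funext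
    (Fintype.linearIndependent_iff.1 hx a (by rwa [Fintype.linearCombination_apply] at ha)))
  obtain ⟨m, Φ, hΦ⟩ := exists_hom_injective exists_functional φ hφ
  refine ⟨m, Φ, (injective_iff_map_eq_zero _).2 fun f hf => ?_⟩
  have hdep : ¬ LinearIndependent ℤ (Fin.snoc x f) := fun h => hmax ⟨_, h⟩
  obtain ⟨g, hg, i, hi⟩ := Fintype.not_linearIndependent_iff.1 hdep
  rw [Fin.sum_univ_castSucc] at hg
  simp only [Fin.snoc_castSucc, Fin.snoc_last] at hg
  have hs : φ (fun j : Fin (Nat.findGreatest P R) => g j.castSucc) = -(g (Fin.last _) • f) := eq_neg_of_add_eq_zero_left hg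
  have h0 : (fun j : Fin (Nat.findGreatest P R) => g j.castSucc) = 0 := hΦ (by
    rw [map_zero, AddMonoidHom.comp_apply, hs, map_neg, map_zsmul, hf, smul_zero, neg_zero])
  have hlast : g (Fin.last _) ≠ 0 := fun hl0 => hi (Fin.lastCases hl0 (fun j => congrFun h0 j) i)
  rw [h0, map_zero, eq_comm, neg_eq_zero] at hs
  exact hom_eq_zero_of_zsmul hlast hs

theorem finite_hom : Module.Finite ℤ (EndAV.Hom A B) := by
  obtain ⟨m, Φ, hΦ⟩ := exists_embedding (A := A) (B := B)
  exact Module.Finite.of_injective Φ.toIntLinearMap hΦ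

theorem free_hom : Module.Free ℤ (EndAV.Hom A B) := by
  haveI := finite_hom (A := A) (B := B)
  haveI : Module.IsTorsionFree ℤ (EndAV.Hom A B) :=
    .of_smul_eq_zero fun n x h => or_iff_not_imp_left.2 fun hn => hom_eq_zero_of_zsmul hn h
  infer_instance

theorem finrank_hom_le (hl : (l : k) ≠ 0) : Module.finrank ℤ (EndAV.Hom A B) ≤
    Module.finrank ℤ_[l] (AbDual.TateMod A l (SGA7.pt (K := k) K)) *
      Module.finrank ℤ_[l] (AbDual.TateMod B l (SGA7.pt (K := k) K)) := by
  haveI := finite_hom (A := A) (B := B)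
  haveI := free_hom (A := A) (B := B)
  exact card_le_of_linearIndependent K l hl _ (Module.finBasis ℤ (EndAV.Hom A B)).linearIndependent

/-- The span of the homomorphisms is saturated among maps of Tate modules. -/
theorem mem_span_of_pow_smul_mem (hl : (l : k) ≠ 0)
    (u : AbDual.TateMod A l (SGA7.pt (K := k) K) →ₗ[ℤ_[l]] AbDual.TateMod B l (SGA7.pt (K := k) K)) (n : ℕ)
    (hu : ((l : ℤ_[l]) ^ n) • u ∈
      Submodule.span ℤ_[l] (Set.range (EndAV.Hom.tateMap (A := A) (B := B) l (SGA7.pt (K := k) K)))) :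
    u ∈ Submodule.span ℤ_[l] (Set.range (EndAV.Hom.tateMap (A := A) (B := B) l (SGA7.pt (K := k) K))) := by
  classical
  haveI := finite_hom (A := A) (B := B)
  haveI := free_hom (A := A) (B := B)
  let b := Module.finBasis ℤ (EndAV.Hom A B)
  let T := EndAV.Hom.tateMap (A := A) (B := B) l (SGA7.pt (K := k) K)
  have hle : Submodule.span ℤ_[l] (Set.range T) ≤ Submodule.span ℤ_[l] (Set.range fun i => T (b i)) := by
    rw [Submodule.span_le]
    rintro _ ⟨φ, rfl⟩
    rw [SetLike.mem_coe, ← b.sum_repr φ, map_sum]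
    refine Submodule.sum_mem _ fun i _ => ?_
    rw [map_zsmul, ← Int.cast_smul_eq_zsmul ℤ_[l]]
    exact Submodule.smul_mem _ _ (Submodule.subset_span ⟨i, rfl⟩)
  obtain ⟨β, hβ⟩ := (Submodule.mem_span_range_iff_exists_fun ℤ_[l]).1 (hle hu)
  obtain ⟨ψ, hψ⟩ := exists_eq_zsmul K l hl (n := n) (∑ i, ((β i).appr n : ℤ) • b i) fun z => by
    rw [← tate_sum_level, hβ, LinearMap.smul_apply, ← Nat.cast_pow, Nat.cast_smul_eq_nsmul]
    exact (u z).2.1 n
  have hdiv : ∀ i, ∃ γ : ℤ_[l], β i = (l : ℤ_[l]) ^ n * γ := fun i => by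
    have h1 := congrArg (fun v => b.repr v i) hψ
    simp only [map_zsmul, Finsupp.smul_apply, smul_eq_mul] at h1
    rw [b.repr_sum_self] at h1
    have h2 : PadicInt.toZModPow n (β i) = 0 := by
      have h3 := congrArg (Int.cast : ℤ → ZMod (l ^ n)) h1
      rw [Int.cast_natCast, Int.cast_mul, Int.cast_natCast, ZMod.natCast_self, zero_mul] at h3
      rw [AbDual.toZModPow_eq_appr, h3]
    rw [← RingHom.mem_ker, PadicInt.ker_toZModPow, Ideal.mem_span_singleton] at h2
    exact h2
  choose γ hγ using hdiv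
  haveI := isTorsionFree_tateMod (A := B) K l
  have hlu : (l : ℤ_[l]) ^ n ≠ 0 := pow_ne_zero _ (Nat.cast_ne_zero.2 (Fact.out : l.Prime).ne_zero)
  have hu' : u = ∑ i, γ i • T (b i) := by
    refine smul_right_injective _ hlu (Eq.trans hβ.symm ?_)
    simp only [Finset.smul_sum, ← mul_smul, ← hγ]
  rw [hu']
  exact Submodule.sum_mem _ fun i _ => Submodule.smul_mem _ _ (Submodule.subset_span ⟨_, rfl⟩)

end Groth.Agent.TateTors22
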