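import Groth.Agent.Lib.TateTors22.DegForm
import Groth.Agent.Lib.TateTors22.BaseChange
import Mathlib.LinearAlgebra.Matrix.ToLinearEquiv
import Mathlib.LinearAlgebra.Matrix.DotProduct

/-!
# Integral functionals on `Hom(A, B)`
-/

universe u

open CategoryTheory Limits AlgebraicGeometry MonoidalCategory CartesianMonoidalCategory MonObj
open scoped GrpObj

set_option linter.style.haveILetI false
set_option backward.isDefEq.respectTransparency false

namespace Groth.Agent.TateTors22

section Abstract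

variable {H : Type*} [AddCommGroup H]

/-- If functionals separate `H`, finitely many of them are injective on a given lattice. -/
theorem exists_hom_injective (hsep : ∀ x : H, x ≠ 0 → ∃ ψ : H →+ ℤ, ψ x ≠ 0) {n : ℕ} (φ : (Fin n → ℤ) →+ H)
    (hφ : Function.Injective φ) :
    ∃ (m : ℕ) (Φ : H →+ (Fin m → ℤ)), Function.Injective (Φ.comp φ) := by
  classical
  let r : (H →+ ℤ) → Module.Dual ℤ (Fin n → ℤ) := fun ψ => (ψ.comp φ).toIntLinearMap
  obtain ⟨t, ht, hspan⟩ := (Submodule.fg_span_iff_fg_span_finset_subset (Set.range r)).1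
    (IsNoetherian.noetherian (Submodule.span ℤ (Set.range r)))
  choose ψ hψ using fun x : (t : Set (Module.Dual ℤ (Fin n → ℤ))) => ht x.2
  let e := (Fintype.equivFin (t : Set (Module.Dual ℤ (Fin n → ℤ)))).symm
  refine ⟨_, Pi.addMonoidHom fun i => ψ (e i), (injective_iff_map_eq_zero _).2 fun a ha => ?_⟩
  by_contra hne
  obtain ⟨ψ₀, hψ₀⟩ := hsep (φ a) fun h => hne (hφ (h.trans (map_zero φ).symm))
  have hle : Submodule.span ℤ (Set.range r) ≤ LinearMap.ker (LinearMap.applyₗ a) := by
    rw [hspan, Submodule.span_le]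
    intro x hx
    have := congrFun ha (e.symm ⟨x, hx⟩)
    rw [SetLike.mem_coe, LinearMap.mem_ker]
    show x a = 0
    rw [show x = r (ψ ⟨x, hx⟩) from (hψ ⟨x, hx⟩).symm]
    change ψ (e (e.symm ⟨x, hx⟩)) (φ a) = 0 at this
    rw [e.apply_symm_apply] at this
    exact this
  exact hψ₀ (hle (Submodule.subset_span ⟨ψ₀, rfl⟩))

/-- An injective map of lattices has a left inverse up to a non-zero integer. -/
theorem exists_scaled_leftInverse {m n : ℕ} (M : (Fin n → ℤ) →+ (Fin m → ℤ)) (hM : Function.Injective M) :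
    ∃ (c : ℤ) (L : (Fin m → ℤ) →+ (Fin n → ℤ)), c ≠ 0 ∧ ∀ a, L (M a) = c • a := by
  classical
  let X : Matrix (Fin m) (Fin n) ℤ := LinearMap.toMatrix' M.toIntLinearMap
  have hX : ∀ a, X.mulVec a = M a := fun a => LinearMap.toMatrix'_mulVec _ a
  let N := X.transpose * X
  have hdet : N.det ≠ 0 := fun h => by
    obtain ⟨v, hv, hNv⟩ := Matrix.exists_mulVec_eq_zero_iff.2 h
    refine hv (hM ?_)
    rw [map_zero, ← hX, ← dotProduct_self_eq_zero, Matrix.dotProduct_mulVec, ← Matrix.mulVec_transpose,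
      Matrix.mulVec_mulVec, show X.transpose * X = N from rfl, hNv, zero_dotProduct]
  refine ⟨N.det, (Matrix.mulVecLin (N.adjugate * X.transpose)).toAddMonoidHom, hdet, fun a => ?_⟩
  show (N.adjugate * X.transpose).mulVec (M a) = _
  rw [← hX, Matrix.mulVec_mulVec, Matrix.mul_assoc, Matrix.adjugate_mul, Matrix.smul_mulVec, Matrix.one_mulVec]

/-- If functionals separate `H`, then on a lattice divisibility in `H` bounds divisibility of coordinates. -/
theorem exists_saturation_const (hsep : ∀ x : H, x ≠ 0 → ∃ ψ : H →+ ℤ, ψ x ≠ 0) {n : ℕ} (φ : (Fin n → ℤ) →+ H)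
    (hφ : Function.Injective φ) :
    ∃ c : ℤ, c ≠ 0 ∧ ∀ (N : ℤ) (a : Fin n → ℤ) (h : H), φ a = N • h → ∀ i, N ∣ c * a i := by
  obtain ⟨m, Φ, hΦ⟩ := exists_hom_injective hsep φ hφ
  obtain ⟨c, L, hc, hL⟩ := exists_scaled_leftInverse _ hΦ
  refine ⟨c, hc, fun N a h e i => ⟨L (Φ h) i, ?_⟩⟩
  have h1 := congrFun (hL a) i
  rw [AddMonoidHom.comp_apply, e, map_zsmul, map_zsmul] at h1
  simpa using h1.symm

theorem isAddTorsionFree_of_separated (hsep : ∀ x : H, x ≠ 0 → ∃ ψ : H →+ ℤ, ψ x ≠ 0) {x : H} {n : ℤ}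
    (hn : n ≠ 0) (h : n • x = 0) : x = 0 := by
  by_contra hx
  obtain ⟨ψ, hψ⟩ := hsep x hx
  have h1 := congrArg ψ h
  rw [map_zsmul, map_zero, smul_eq_mul, mul_eq_zero] at h1
  exact hψ (h1.resolve_left hn)

end Abstract

variable {k : Type u} [Field k] {A B : Over (Spec (CommRingCat.of k))}
  [GrpObj A] [IsCommMonObj A] [IsProper A.hom] [GeometricallyIntegral A.hom]
  [GrpObj B] [IsCommMonObj B] [IsProper B.hom] [GeometricallyIntegral B.hom]

/-- Over an algebraically closed field a non-trivial homomorphism is detected by a biadditive degree form. -/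
theorem exists_form [IsAlgClosed k] (f : A ⟶ B) [IsMonHom f] (hf : f ≠ 1) :
    ∃ b : (A ⟶ B) → (A ⟶ B) → ℤ, (∀ x y z, b (x * y) z = b x z + b y z) ∧ b f f ≠ 0 := by
  obtain ⟨L, hLa, hsym⟩ := CubeField.exists_isAmple_symmetric B
  obtain ⟨C, i, iC, pC, hC, hpos⟩ := exists_curve_deg_pos f hf hLa
  let c : CurveTo A := ⟨C, i, hC⟩
  refine ⟨bForm hLa.1 c, bForm_mul_left hLa.1 c, ?_⟩
  rw [bForm_self hLa.1 hsym, CubeField.P, degCl_cls]
  simp only [c]
  omega

/-- Functionals separate `Hom(A, B)`. -/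
theorem exists_functional (x : EndAV.Hom A B) (hx : x ≠ 0) : ∃ ψ : EndAV.Hom A B →+ ℤ, ψ x ≠ 0 := by
  let K := AlgebraicClosure k
  let s := Spec.map (CommRingCat.ofHom (algebraMap k K))
  let F := Over.pullback s
  letI gA : GrpObj (F.obj A) := Functor.grpObjObj
  letI gB : GrpObj (F.obj B) := Functor.grpObjObj
  haveI : IsProper (F.obj A).hom := inferInstanceAs (IsProper (pullback.snd A.hom s))
  haveI : IsProper (F.obj B).hom := inferInstanceAs (IsProper (pullback.snd B.hom s))
  haveI : GeometricallyIntegral (F.obj A).hom := inferInstanceAs (GeometricallyIntegral (pullback.snd A.hom s))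
  haveI : GeometricallyIntegral (F.obj B).hom := inferInstanceAs (GeometricallyIntegral (pullback.snd B.hom s))
  haveI : IsCommMonObj (F.obj A) := isCommMonObj_of_isProper_of_geometricallyIntegral _
  haveI : IsCommMonObj (F.obj B) := isCommMonObj_of_isProper_of_geometricallyIntegral _
  haveI : IsMonHom (F.map x.toHom) := inferInstance
  obtain ⟨b, hb, hne⟩ := exists_form (k := K) (F.map x.toHom) fun e => hx (EndAV.Hom.ext
    ((map_injective_field K x.toHom 1 (e.trans F.map_one.symm)).trans EndAV.Hom.toHom_zero.symm))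
  refine ⟨AddMonoidHom.mk' (fun v => b (F.map v.toHom) (F.map x.toHom)) fun v w => ?_, hne⟩
  show b (F.map (v + w).toHom) _ = _
  rw [EndAV.Hom.toHom_add, show F.map (v.toHom * w.toHom) = F.map v.toHom * F.map w.toHom from F.map_mul _ _]
  exact hb _ _ _

/-- `Hom(A, B)` is torsion-free. -/
theorem hom_eq_zero_of_zsmul {x : EndAV.Hom A B} {n : ℤ} (hn : n ≠ 0) (h : n • x = 0) : x = 0 :=
  isAddTorsionFree_of_separated exists_functional hn h

end Groth.Agent.TateTors22
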