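import Groth.Agent.Lib.TateTors22.TateInj
import Mathlib.LinearAlgebra.FreeModule.PID
import Mathlib.LinearAlgebra.Dimension.Constructions

/-!
# The Tate module is a free module of finite rank
-/

universe u

open CategoryTheory Limits AlgebraicGeometry MonoidalCategory CartesianMonoidalCategory MonObj
open scoped GrpObj

set_option linter.style.haveILetI false
set_option backward.isDefEq.respectTransparency false

namespace Groth.Agent.TateTors22

variable {k : Type u} [Field k]

/-- A finite scheme over a field has finitely many points with values in a given field. -/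
theorem finite_points (K : Type u) [Field K] [Algebra k K] (N : Over (Spec (CommRingCat.of k))) [IsFinite N.hom] :
    Finite (SGA7.pt (K := k) K ⟶ N) := by
  haveI : IsAffine N.left := isAffine_of_isAffineHom N.hom
  let R := Γ(N.left, ⊤)
  let φ : CommRingCat.of k ⟶ R := Spec.preimage (N.left.isoSpec.inv ≫ N.hom)
  have hφ : Spec.map φ = N.left.isoSpec.inv ≫ N.hom := Spec.map_preimage _
  letI : Algebra k R := φ.hom.toAlgebra
  have hfin : IsFinite (Spec.map φ) := by rw [hφ]; infer_instance
  rw [IsFinite.SpecMap_iff] at hfin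
  haveI : Module.Finite k R := hfin
  let g : (SGA7.pt (K := k) K ⟶ N) → (R →ₐ[k] K) := fun y =>
    { toRingHom := (Spec.preimage (y.left ≫ N.left.isoSpec.hom)).hom
      commutes' := fun c => by
        have h : φ ≫ Spec.preimage (y.left ≫ N.left.isoSpec.hom) = CommRingCat.ofHom (algebraMap k K) := by
          apply Spec.map_injective
          rw [Spec.map_comp, Spec.map_preimage, hφ, Category.assoc, Iso.hom_inv_id_assoc]
          exact Over.w y
        exact congrArg (fun r : CommRingCat.of k ⟶ CommRingCat.of K => r.hom c) h }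
  refine Finite.of_injective g fun a b h => ?_
  ext1
  rw [← cancel_mono N.left.isoSpec.hom]
  rw [← Spec.map_preimage (a.left ≫ N.left.isoSpec.hom), ← Spec.map_preimage (b.left ≫ N.left.isoSpec.hom)]
  exact congrArg Spec.map (CommRingCat.hom_ext (congrArg AlgHom.toRingHom h))

variable {A : Over (Spec (CommRingCat.of k))}
  [GrpObj A] [IsCommMonObj A] [IsProper A.hom] [GeometricallyIntegral A.hom]
  (K : Type u) [Field K] [Algebra k K]

/-- Finitely many torsion points. -/
theorem finite_tors {n : ℕ} (hn : (n : k) ≠ 0) : Finite {x : SGA7.pt (K := k) K ⟶ A // x ^ n = 1} := by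
  obtain ⟨hf, -, -⟩ := mul_props (A := A) hn
  let f := 𝟙 A ^ n
  haveI : IsFinite f.left := hf
  let N : Over (Spec (CommRingCat.of k)) := Over.mk (pullback.snd f.left η[A].left)
  haveI : IsFinite N.hom := MorphismProperty.pullback_snd _ _ ‹IsFinite f.left›
  haveI := finite_points K N
  let i : N ⟶ A := Over.homMk (pullback.fst f.left η[A].left) (by
    show pullback.fst f.left η[A].left ≫ A.hom = pullback.snd _ _
    rw [← Over.w f, pullback.condition_assoc, Over.w η[A]]
    exact Category.comp_id _)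
  refine Finite.of_surjective (fun y : {y : SGA7.pt (K := k) K ⟶ N // (y ≫ i) ^ n = 1} =>
    (⟨y.1 ≫ i, y.2⟩ : {x : SGA7.pt (K := k) K ⟶ A // x ^ n = 1})) fun x => ?_
  have h : x.1.left ≫ f.left = Spec.map (CommRingCat.ofHom (algebraMap k K)) ≫ η[A].left := by
    have := congrArg (fun a : SGA7.pt (K := k) K ⟶ A => a.left) ((comp_pow_id x.1 n).trans x.2)
    simp only [Over.comp_left] at this
    rw [this, Hom.one_def, Over.comp_left]
    rfl
  let y : SGA7.pt (K := k) K ⟶ N := Over.homMk (pullback.lift x.1.left _ h) (pullback.lift_snd _ _ _)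
  have hy : y ≫ i = x.1 := by ext1; exact pullback.lift_fst _ _ _
  exact ⟨⟨y, by rw [hy]; exact x.2⟩, Subtype.ext hy⟩

variable [IsAlgClosed K] (l : ℕ) [Fact l.Prime]

/-- The Tate module is generated by lifts of the `l`-torsion points. -/
theorem exists_generators (hl : (l : k) ≠ 0) [Fintype {x : SGA7.pt (K := k) K ⟶ A // x ^ l = 1}] :
    ∃ g : {x : SGA7.pt (K := k) K ⟶ A // x ^ l = 1} → AbDual.TateMod A l (SGA7.pt K),
      ∀ z, ∃ β : {x : SGA7.pt (K := k) K ⟶ A // x ^ l = 1} → ℤ_[l], z = ∑ x, β x • g x := by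
  classical
  choose g hg using fun x : {x : SGA7.pt (K := k) K ⟶ A // x ^ l = 1} =>
    exists_tateMod_ext K (A := A) l hl (n := 1) x.1 (by rw [pow_one]; exact x.2)
  refine ⟨g, fun z => ?_⟩
  -- dividing by `l`
  have hdiv : ∀ w : AbDual.TateMod A l (SGA7.pt K),
      ∃ (x : {x : SGA7.pt (K := k) K ⟶ A // x ^ l = 1}) (w' : AbDual.TateMod A l (SGA7.pt K)),
        w = g x + l • w' := fun w => by
    let x : {x : SGA7.pt (K := k) K ⟶ A // x ^ l = 1} := ⟨((w : ℕ → Additive (SGA7.pt (K := k) K ⟶ A)) 1).toMul, by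
      have := w.2.1 1
      rw [pow_one] at this
      exact this⟩
    let d := w - g x
    have hd1 : (d : ℕ → Additive (SGA7.pt (K := k) K ⟶ A)) 1 = 0 := by
      show (w : ℕ → Additive (SGA7.pt (K := k) K ⟶ A)) 1 - (g x : ℕ → Additive (SGA7.pt (K := k) K ⟶ A)) 1 = 0
      rw [sub_eq_zero]
      exact (congrArg Additive.ofMul (hg x)).symm
    refine ⟨x, ⟨fun n => (d : ℕ → Additive (SGA7.pt (K := k) K ⟶ A)) (n + 1), fun n => ?_, fun n => d.2.2 (n + 1)⟩, ?_⟩
    · induction n with
      | zero => rw [pow_zero, one_smul]; exact hd1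
      | succ n ih => rw [pow_succ, mul_smul, d.2.2 (n + 1), ih]
    · refine AbDual.TateMod.ext fun n => ?_
      show _ = (g x : ℕ → Additive (SGA7.pt (K := k) K ⟶ A)) n + l • (d : ℕ → Additive (SGA7.pt (K := k) K ⟶ A)) (n + 1)
      rw [d.2.2 n]
      show _ = _ + ((w : ℕ → Additive (SGA7.pt (K := k) K ⟶ A)) n - _)
      abel
  choose x w hw using hdiv
  let f : {x : SGA7.pt (K := k) K ⟶ A // x ^ l = 1} → ℕ → ℤ := fun y N =>
    ∑ j ∈ Finset.range N, if x (w^[j] z) = y then (l : ℤ) ^ j else 0
  have hi : ∀ y i, (l : ℤ) ^ i ∣ f y (i + 1) - f y i := fun y i => by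
    simp only [f, Finset.sum_range_succ, add_sub_cancel_left]
    split_ifs
    · exact dvd_refl _
    · exact dvd_zero _
  let β := fun y => PadicInt.ofIntSeq _ (PadicInt.isCauSeq_padicNorm_of_pow_dvd_sub (f y) l (hi y))
  have hexp : ∀ N : ℕ, z = (∑ y, f y N • g y) + (l ^ N : ℕ) • w^[N] z := fun N => by
    induction N with
    | zero => simp [f]
    | succ N ih =>
      conv_lhs => rw [ih, hw (w^[N] z)]
      simp only [f, Finset.sum_range_succ, add_smul, Finset.sum_add_distrib, ite_smul, zero_smul, Finset.sum_ite_eq,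
        Finset.mem_univ, if_true, Function.iterate_succ_apply', smul_add, ← mul_smul, pow_succ]
      rw [← natCast_zsmul (g (x (w^[N] z))) (l ^ N), Nat.cast_pow]
      abel
  refine ⟨β, AbDual.TateMod.ext fun n => ?_⟩
  let π := AbDual.TateMod.component A l (SGA7.pt (K := k) K) n
  show π z = π _
  conv_lhs => rw [hexp n]
  rw [map_add, map_nsmul, map_sum, map_sum, show (l ^ n) • π (w^[n] z) = 0 from (w^[n] z).2.1 n, add_zero]
  refine Finset.sum_congr rfl fun y _ => ?_
  rw [map_zsmul]
  show _ = ((β y).appr n) • π (g y)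
  have hmod : ((f y n : ℤ) : ZMod (l ^ n)) = (((β y).appr n : ℕ) : ℤ) := by
    rw [Int.cast_natCast, ← AbDual.toZModPow_eq_appr, PadicInt.toZModPow_ofIntSeq_of_pow_dvd_sub _ _ (hi y)]
  obtain ⟨q, hq⟩ := (ZMod.intCast_eq_intCast_iff_dvd_sub _ _ _).1 hmod
  rw [← natCast_zsmul (π (g y)), show (((β y).appr n : ℕ) : ℤ) = f y n + q * ((l ^ n : ℕ) : ℤ) by
    rw [mul_comm]; linarith, add_smul, mul_smul, natCast_zsmul (π (g y)) (l ^ n),
    show (l ^ n) • π (g y) = 0 from (g y).2.1 n, smul_zero, add_zero]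

theorem finite_tateMod (hl : (l : k) ≠ 0) : Module.Finite ℤ_[l] (AbDual.TateMod A l (SGA7.pt (K := k) K)) := by
  classical
  haveI := finite_tors (A := A) K hl
  haveI := Fintype.ofFinite {x : SGA7.pt (K := k) K ⟶ A // x ^ l = 1}
  obtain ⟨g, hg⟩ := exists_generators (A := A) K l hl
  refine Module.Finite.of_surjective (Fintype.linearCombination ℤ_[l] g) fun z => ?_
  obtain ⟨β, rfl⟩ := hg z
  exact ⟨β, Fintype.linearCombination_apply _ _ _⟩

omit [IsProper A.hom] [GeometricallyIntegral A.hom] [IsAlgClosed K] in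
theorem eq_zero_of_smul (z : AbDual.TateMod A l (SGA7.pt (K := k) K)) (h : (l : ℤ_[l]) • z = 0) : z = 0 := by
  refine AbDual.TateMod.ext fun n => ?_
  rw [← z.2.2 n]
  have := congrArg (AbDual.TateMod.component A l (SGA7.pt (K := k) K) (n + 1)) h
  rw [Nat.cast_smul_eq_nsmul, map_nsmul, map_zero] at this
  exact this

omit [IsProper A.hom] [GeometricallyIntegral A.hom] [IsAlgClosed K] in
theorem isTorsionFree_tateMod : Module.IsTorsionFree ℤ_[l] (AbDual.TateMod A l (SGA7.pt (K := k) K)) := by
  refine .of_smul_eq_zero fun a z h => or_iff_not_imp_left.2 fun ha => ?_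
  rw [PadicInt.unitCoeff_spec ha, mul_smul] at h
  have h' := (IsUnit.smul_eq_zero (Units.isUnit _)).1 h
  clear h
  generalize a.valuation = m at h'
  induction m generalizing z with
  | zero => simpa using h'
  | succ m ih =>
    rw [pow_succ, mul_smul] at h'
    exact eq_zero_of_smul K l z (ih _ h')

theorem free_tateMod (hl : (l : k) ≠ 0) : Module.Free ℤ_[l] (AbDual.TateMod A l (SGA7.pt (K := k) K)) := by
  haveI := finite_tateMod (A := A) K l hl
  haveI := isTorsionFree_tateMod (A := A) K l
  infer_instance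

end Groth.Agent.TateTors22
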