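import Groth.Agent.Lib.TateTors22.HomFinite
import Groth.Agent.Lib.AVDegree22.MulDeg

/-!
# The rank of the Tate module
-/

universe u

open CategoryTheory Limits AlgebraicGeometry MonoidalCategory CartesianMonoidalCategory MonObj
open scoped GrpObj

set_option linter.style.haveILetI false
set_option backward.isDefEq.respectTransparency false

namespace Groth.Agent.TateTors22

variable {k : Type u} [Field k] {A : Over (Spec (CommRingCat.of k))}
  [GrpObj A] [IsCommMonObj A] [IsProper A.hom] [GeometricallyIntegral A.hom]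
  (K : Type u) [Field K] [Algebra k K] [IsAlgClosed K] (l : ℕ) [Fact l.Prime]

omit [IsProper A.hom] [GeometricallyIntegral A.hom] [IsAlgClosed K] in
/-- A sequence with trivial first term is a multiple of `l`. -/
theorem exists_eq_smul {z : AbDual.TateMod A l (SGA7.pt (K := k) K)}
    (hz : (z : ℕ → Additive (SGA7.pt (K := k) K ⟶ A)) 1 = 0) :
    ∃ w : AbDual.TateMod A l (SGA7.pt (K := k) K), z = (l : ℤ_[l]) • w := by
  refine ⟨⟨fun n => (z : ℕ → Additive (SGA7.pt (K := k) K ⟶ A)) (n + 1), fun n => ?_, fun n => z.2.2 (n + 1)⟩,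
    AbDual.TateMod.ext fun n => ?_⟩
  · induction n with
    | zero => rw [pow_zero, one_smul]; exact hz
    | succ n ih => rw [pow_succ, mul_smul, z.2.2 (n + 1), ih]
  · rw [Nat.cast_smul_eq_nsmul]
    exact (z.2.2 n).symm

/-- The Tate module has rank twice the dimension. -/
theorem finrank_tateMod (hl : (l : k) ≠ 0) {g : ℕ} (hg : topologicalKrullDim A.left = g) :
    Module.finrank ℤ_[l] (AbDual.TateMod A l (SGA7.pt (K := k) K)) = 2 * g := by
  classical
  haveI : IsIntegral A.left := GeometricallyIntegral.isIntegral_of_subsingleton A.hom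
  haveI := finite_tateMod (A := A) K l hl
  haveI := free_tateMod (A := A) K l hl
  let b := Module.finBasis ℤ_[l] (AbDual.TateMod A l (SGA7.pt (K := k) K))
  let π : AbDual.TateMod A l (SGA7.pt (K := k) K) →+ Additive (SGA7.pt (K := k) K ⟶ A) :=
    AbDual.TateMod.component A l (SGA7.pt (K := k) K) 1
  have htors : ∀ z, (π z).toMul ∈ AbDual.torsPts A l (SGA7.pt (K := k) K) := fun z => by
    have h := z.2.1 1
    rw [pow_one] at h
    exact h
  let F : (Fin _ → ZMod l) → AbDual.torsPts A l (SGA7.pt (K := k) K) := fun c =>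
    ⟨(π (∑ i, ((c i).val : ℤ_[l]) • b i)).toMul, htors _⟩
  haveI : NeZero l := ⟨(Fact.out : l.Prime).ne_zero⟩
  have happr : ∀ (z : AbDual.TateMod A l (SGA7.pt (K := k) K)) (a : ℤ_[l]) (m : ℕ),
      PadicInt.toZMod a = (m : ZMod l) → π (a • z) = π ((m : ℤ_[l]) • z) := fun z a m h => by
    have hk : a - (m : ℤ_[l]) ∈ RingHom.ker (PadicInt.toZMod (p := l)) := by
      rw [RingHom.mem_ker, map_sub, map_natCast, h, sub_self]
    rw [PadicInt.ker_toZMod, PadicInt.maximalIdeal_eq_span_p, Ideal.mem_span_singleton] at hk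
    obtain ⟨q, hq⟩ := hk
    rw [sub_eq_iff_eq_add] at hq
    rw [hq, add_smul, map_add, mul_smul, Nat.cast_smul_eq_nsmul ℤ_[l] l, map_nsmul]
    have h1 : l • π (q • z) = 0 := by
      have h := (q • z).2.1 1
      rw [pow_one] at h
      exact h
    rw [h1, zero_add]
  have hbij : Function.Bijective F := by
    refine ⟨fun c c' h => ?_, fun x => ?_⟩
    · have h1 : π (∑ i, (((c i).val : ℤ_[l]) - ((c' i).val : ℤ_[l])) • b i) = 0 := by
        simp only [sub_smul, Finset.sum_sub_distrib, map_sub]
        rw [sub_eq_zero]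
        exact congrArg Additive.ofMul (congrArg Subtype.val h)
      obtain ⟨w, hw⟩ := exists_eq_smul K l h1
      funext i
      have h2 := congrArg (fun z => b.repr z i) hw
      simp only [b.repr_sum_self, map_smul, Finsupp.smul_apply, smul_eq_mul] at h2
      have h3 := congrArg (PadicInt.toZMod (p := l)) h2
      simpa [sub_eq_zero] using h3
    · obtain ⟨z, hz⟩ := exists_tateMod_ext K (A := A) l hl (n := 1) x.1 (by rw [pow_one]; exact x.2)
      refine ⟨fun i => PadicInt.toZMod (b.repr z i), Subtype.ext ?_⟩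
      refine Eq.trans (congrArg Additive.toMul ?_) hz
      show π _ = π z
      conv_rhs => rw [← b.sum_repr z]
      rw [map_sum, map_sum]
      exact Finset.sum_congr rfl fun i _ => (happr _ _ _ (ZMod.natCast_zmod_val _).symm).symm
  have h := Nat.card_eq_of_bijective F hbij
  rw [Nat.card_fun, Nat.card_zmod, Nat.card_fin, AVDegree22.card_tors A K hg hl] at h
  exact Nat.pow_right_injective (Fact.out : l.Prime).two_le h

end Groth.Agent.TateTors22
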