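import Groth.Agent.Lib.TateTors22.TateRank
import Groth.Agent.Lib.AbRigid.Image
import Groth.Agent.Lib.AbRigid.Isogeny
import Groth.Agent.Lib.VarDim.Scheme

/-!
# A homomorphism is finite exactly when it is injective on the Tate module
-/

universe u

open CategoryTheory Limits AlgebraicGeometry MonoidalCategory CartesianMonoidalCategory MonObj
open scoped GrpObj

set_option linter.style.haveILetI false
set_option backward.isDefEq.respectTransparency false

namespace Groth.Agent.TateTors22

variable {k : Type u} [Field k] {A B : Over (Spec (CommRingCat.of k))}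
  [GrpObj A] [IsCommMonObj A] [IsProper A.hom] [GeometricallyIntegral A.hom]
  [GrpObj B] [IsCommMonObj B] [IsProper B.hom] [GeometricallyIntegral B.hom]
  (K : Type u) [Field K] [Algebra k K]

omit [IsProper A.hom] [GeometricallyIntegral A.hom] [IsProper B.hom] [GeometricallyIntegral B.hom] in
/-- The points killed by a finite homomorphism are finite. -/
theorem finite_kerPts (φ : A ⟶ B) [IsMonHom φ] [IsFinite φ.left] :
    Finite {x : SGA7.pt (K := k) K ⟶ A // x ≫ φ = 1} := by
  let N : Over (Spec (CommRingCat.of k)) := Over.mk (pullback.snd φ.left η[B].left)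
  haveI : IsFinite N.hom := inferInstanceAs (IsFinite (pullback.snd φ.left η[B].left))
  let i : N ⟶ A := Over.homMk (pullback.fst φ.left η[B].left) (by
    show pullback.fst φ.left η[B].left ≫ A.hom = pullback.snd φ.left η[B].left
    rw [← Over.w φ, pullback.condition_assoc, Over.w η[B]]
    exact Category.comp_id _)
  haveI := finite_points K N
  refine Finite.of_injective (β := SGA7.pt (K := k) K ⟶ N) (fun x => Over.homMk
    (pullback.lift x.1.left (Spec.map (CommRingCat.ofHom (algebraMap k K))) ?_) (pullback.lift_snd _ _ _))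
    fun x y h => Subtype.ext ?_
  · have := congrArg (fun a : SGA7.pt (K := k) K ⟶ B => a.left) x.2
    simp only [Over.comp_left] at this
    rw [this, Hom.one_def, Over.comp_left]
    rfl
  · have h' := congrArg (fun y => (y ≫ i).left) h
    ext1
    simpa [i] using h'

omit [IsProper A.hom] [GeometricallyIntegral A.hom] [IsProper B.hom] [GeometricallyIntegral B.hom] in
/-- A finite homomorphism is injective on Tate modules. -/
theorem injective_tateMap_of_isFinite (l : ℕ) [Fact l.Prime] (φ : A ⟶ B) [IsMonHom φ] [IsFinite φ.left] :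
    Function.Injective (AbDual.tateMapₗ (l := l) (T := SGA7.pt (K := k) K) φ) := by
  refine (injective_iff_map_eq_zero _).2 fun z hz => AbDual.TateMod.ext fun n => ?_
  haveI := finite_kerPts K φ
  let H : Subgroup (SGA7.pt (K := k) K ⟶ A) :=
    { carrier := {x | x ≫ φ = 1}
      one_mem' := MonObj.one_comp φ
      mul_mem' := fun {a b} (ha : a ≫ φ = 1) (hb : b ≫ φ = 1) => by
        show (a * b) ≫ φ = 1
        rw [MonObj.mul_comp, ha, hb, _root_.one_mul]
      inv_mem' := fun {a} (ha : a ≫ φ = 1) => by
        show a⁻¹ ≫ φ = 1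
        rw [GrpObj.inv_comp, ha, _root_.inv_one] }
  haveI : Finite H := ‹Finite {x : SGA7.pt (K := k) K ⟶ A // x ≫ φ = 1}›
  obtain ⟨a, M, hM, hc⟩ := Nat.exists_eq_pow_mul_and_not_dvd (n := Nat.card H) Nat.card_pos.ne' l
    (Fact.out : l.Prime).ne_one
  let w : H := ⟨((z : ℕ → Additive (SGA7.pt (K := k) K ⟶ A)) (n + a)).toMul, by
    have := congrArg (fun y : AbDual.TateMod B l (SGA7.pt (K := k) K) =>
      ((y : ℕ → Additive (SGA7.pt (K := k) K ⟶ B)) (n + a)).toMul) hz
    exact this⟩
  have h1 : orderOf w ∣ l ^ (n + a) := orderOf_dvd_of_pow_eq_one (Subtype.ext (z.2.1 (n + a)))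
  have h2 : orderOf w ∣ l ^ a * M := hc ▸ orderOf_dvd_natCard w
  obtain ⟨j, -, hj⟩ := (Nat.dvd_prime_pow (Fact.out : l.Prime)).1 h1
  have h3 : orderOf w ∣ l ^ a :=
    (Nat.Coprime.dvd_mul_right (hj ▸ Nat.Coprime.pow_left j ((Nat.Prime.coprime_iff_not_dvd Fact.out).2 hM))).1 h2
  have h4 : w ^ (l ^ a) = 1 := orderOf_dvd_iff_pow_eq_one.1 h3
  have h5 : ∀ m, (l ^ m) • (z : ℕ → Additive (SGA7.pt (K := k) K ⟶ A)) (n + m) =
      (z : ℕ → Additive (SGA7.pt (K := k) K ⟶ A)) n := by
    intro m
    induction m with
    | zero => simp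
    | succ m ih => rw [pow_succ, mul_smul, ← Nat.add_assoc, z.2.2 (n + m), ih]
  rw [← h5 a]
  exact congrArg (fun y : H => Additive.ofMul y.1) h4

/-- A homomorphism from an abelian variety, injective on Tate modules, is finite. -/
theorem isFinite_of_injective_tateMap [IsAlgClosed K] (l : ℕ) [Fact l.Prime] (hl : (l : k) ≠ 0)
    (φ : A ⟶ B) [IsMonHom φ]
    (hinj : Function.Injective (AbDual.tateMapₗ (l := l) (T := SGA7.pt (K := k) K) φ)) : IsFinite φ.left := by
  obtain ⟨Z, hZ, i, q, hi, hq, hci, hZp, hZg, hqs, -, -, hqi⟩ := AbRigid.exists_image A B φ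
  haveI := hi; haveI := hq; haveI := hci; haveI := hZp; haveI := hZg; haveI := hqs
  haveI : IsCommMonObj Z := isCommMonObj_of_isProper_of_geometricallyIntegral Z
  haveI : IsIntegral A.left := GeometricallyIntegral.isIntegral_of_subsingleton A.hom
  haveI : IsIntegral Z.left := GeometricallyIntegral.isIntegral_of_subsingleton Z.hom
  haveI : LocallyOfFiniteType q.left := by
    haveI : LocallyOfFiniteType (q.left ≫ Z.hom) := by rw [Over.w]; infer_instance
    exact locallyOfFiniteType_of_comp q.left Z.hom
  have hdim : ∀ X : Over (Spec (CommRingCat.of k)), ∀ [IsIntegral X.left] [IsProper X.hom],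
      topologicalKrullDim X.left = (VarDim.sdim X.hom (genericPoint X.left) : WithBot ℕ∞) := fun X _ _ => by
    rw [VarDim.dim_eq_sdim_genericPoint X.hom]
  have hle : VarDim.sdim Z.hom (genericPoint Z.left) ≤ VarDim.sdim A.hom (genericPoint A.left) := by
    have hgen : q.left (genericPoint A.left) = genericPoint Z.left :=
      ((genericPoint_spec A.left).image q.left.continuous).eq (by
        rw [Set.image_univ, q.left.surjective.range_eq, closure_univ]
        exact genericPoint_spec Z.left)
    have := VarDim.sdim_le_comp Z.hom q.left (genericPoint A.left)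
    rw [hgen] at this
    simpa only [Over.w q] using this
  have hA := finrank_tateMod (A := A) K l hl (hdim A)
  have hZr := finrank_tateMod (A := Z) K l hl (hdim Z)
  haveI := finite_tateMod (A := Z) K l hl
  haveI := free_tateMod (A := A) K l hl
  haveI := free_tateMod (A := Z) K l hl
  haveI := finite_tateMod (A := A) K l hl
  have hinj' : Function.Injective (AbDual.tateMapₗ (l := l) (T := SGA7.pt (K := k) K) q) := fun x y h =>
    hinj (AbDual.TateMod.ext fun n => by
      have h' := congrArg (fun z : AbDual.TateMod Z l (SGA7.pt (K := k) K) =>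
        Additive.ofMul (((z : ℕ → Additive (SGA7.pt (K := k) K ⟶ Z)) n).toMul ≫ i)) h
      show Additive.ofMul (_ ≫ φ) = Additive.ofMul (_ ≫ φ)
      rw [← hqi, ← Category.assoc, ← Category.assoc]
      exact h')
  have hrank := LinearMap.finrank_le_finrank_of_injective hinj'
  rw [hA, hZr] at hrank
  have heq : topologicalKrullDim A.left = topologicalKrullDim Z.left := by
    rw [hdim A, hdim Z, show VarDim.sdim Z.hom (genericPoint Z.left) = VarDim.sdim A.hom (genericPoint A.left) by omega]
  haveI : IsFinite q.left := AbRigid.isFinite_of_surjective A Z q heq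
  rw [← hqi, Over.comp_left]
  infer_instance

theorem isFinite_iff_injective_tateMap [IsAlgClosed K] (l : ℕ) [Fact l.Prime] (hl : (l : k) ≠ 0)
    (φ : A ⟶ B) [IsMonHom φ] :
    IsFinite φ.left ↔ Function.Injective (AbDual.tateMapₗ (l := l) (T := SGA7.pt (K := k) K) φ) :=
  ⟨fun _ => injective_tateMap_of_isFinite K l φ, isFinite_of_injective_tateMap K l hl φ⟩

/-- An endomorphism is finite exactly when its determinant on the Tate module does not vanish. -/
theorem isFinite_iff_det_ne_zero [IsAlgClosed K] (l : ℕ) [Fact l.Prime] (hl : (l : k) ≠ 0)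
    (φ : A ⟶ A) [IsMonHom φ] :
    IsFinite φ.left ↔ LinearMap.det (AbDual.tateMapₗ (l := l) (T := SGA7.pt (K := k) K) φ) ≠ 0 := by
  haveI := free_tateMod (A := A) K l hl
  haveI := finite_tateMod (A := A) K l hl
  rw [isFinite_iff_injective_tateMap K l hl φ, ← LinearMap.ker_eq_bot]
  constructor
  · intro h hdet
    exact LinearMap.bot_lt_ker_of_det_eq_zero hdet |>.ne h.symm
  · intro h
    by_contra hk
    exact h (LinearMap.det_eq_zero_iff_ker_ne_bot.2 hk)

end Groth.Agent.TateTors22
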