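import Groth.Agent.Lib.TateTors22.FiniteIff
import Groth.Agent.Lib.TateTors22.GenField
import Groth.Agent.Lib.AVPRank22.PRank
import Mathlib.LinearAlgebra.FreeModule.Finite.Quotient
import Mathlib.LinearAlgebra.Determinant
import Mathlib.NumberTheory.Padics.RingHoms

/-!
# The cokernel on Tate modules of an isogeny and the absolute value of the determinant
-/

universe u

open CategoryTheory Limits AlgebraicGeometry MonoidalCategory CartesianMonoidalCategory MonObj
open scoped GrpObj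

set_option linter.style.haveILetI false
set_option backward.isDefEq.respectTransparency false

namespace Groth.Agent.TateTors22

section Padic

variable {l : ℕ} [Fact l.Prime]

theorem natCard_quotient_mul_norm (a : ℤ_[l]) (ha : a ≠ 0) :
    (Nat.card (ℤ_[l] ⧸ Ideal.span ({a} : Set ℤ_[l])) : ℝ) * ‖a‖ = 1 := by
  have hI : Ideal.span ({a} : Set ℤ_[l]) = RingHom.ker (PadicInt.toZModPow (p := l) a.valuation) := by
    rw [PadicInt.ker_toZModPow, Ideal.span_singleton_eq_span_singleton]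
    exact ⟨(PadicInt.unitCoeff ha)⁻¹, by
      conv_lhs => arg 1; rw [PadicInt.unitCoeff_spec ha]
      rw [mul_right_comm, Units.mul_inv, _root_.one_mul]⟩
  have hc : Nat.card (ℤ_[l] ⧸ Ideal.span ({a} : Set ℤ_[l])) = l ^ a.valuation := by
    rw [hI]
    refine (Nat.card_congr (RingHom.quotientKerEquivOfSurjective
      (f := PadicInt.toZModPow (p := l) a.valuation) (ZMod.ringHom_surjective _)).toEquiv).trans ?_
    exact Nat.card_zmod _
  rw [hc, PadicInt.norm_eq_zpow_neg_valuation ha, Nat.cast_pow, zpow_neg, zpow_natCast]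
  exact mul_inv_cancel₀ (pow_ne_zero _ (Nat.cast_ne_zero.2 (Fact.out : l.Prime).ne_zero))

/-- The order of the cokernel of an injective endomorphism is the inverse absolute value of its determinant. -/
theorem natCard_coker_mul_norm_det {M : Type*} [AddCommGroup M] [Module ℤ_[l] M] [Module.Free ℤ_[l] M]
    [Module.Finite ℤ_[l] M] (f : M →ₗ[ℤ_[l]] M) (hf : Function.Injective f) :
    (Nat.card (M ⧸ LinearMap.range f) : ℝ) * ‖LinearMap.det f‖ = 1 := by
  classical
  let b := Module.Free.chooseBasis ℤ_[l] M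
  let e : M ≃ₗ[ℤ_[l]] LinearMap.range f := LinearEquiv.ofInjective f hf
  have h : Module.finrank ℤ_[l] (LinearMap.range f) = Module.finrank ℤ_[l] M := e.finrank_eq.symm
  let a := Submodule.smithNormalFormCoeffs b h
  let b' := Submodule.smithNormalFormTopBasis b h
  let ab := Submodule.smithNormalFormBotBasis b h
  let g : M →ₗ[ℤ_[l]] M := (LinearMap.range f).subtype ∘ₗ (b'.equiv ab (Equiv.refl _)).toLinearMap
  have hg : ∀ i, g (b' i) = a i • b' i := fun i => by
    simp only [g, LinearMap.comp_apply, LinearEquiv.coe_coe, Module.Basis.equiv_apply, Equiv.refl_apply]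
    exact Submodule.smithNormalFormBotBasis_def b h i
  have hdet : LinearMap.det g = ∏ i, a i := by
    rw [← LinearMap.det_toMatrix b', show LinearMap.toMatrix b' b' g = Matrix.diagonal a from ?_,
      Matrix.det_diagonal]
    ext i j
    rw [LinearMap.toMatrix_apply, hg, map_smul, b'.repr_self, Finsupp.smul_apply, Finsupp.single_apply,
      Matrix.diagonal_apply]
    by_cases hij : i = j
    · subst hij; simp
    · simp [hij, Ne.symm hij]
  let u : M ≃ₗ[ℤ_[l]] M := e.trans (b'.equiv ab (Equiv.refl _)).symm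
  have hfg : f = g ∘ₗ u.toLinearMap := LinearMap.ext fun x => by
    show f x = ((b'.equiv ab (Equiv.refl _)) ((b'.equiv ab (Equiv.refl _)).symm (e x))).1
    rw [LinearEquiv.apply_symm_apply]
    rfl
  have hu : ‖LinearMap.det u.toLinearMap‖ = 1 := PadicInt.isUnit_iff.1 u.isUnit_det'
  rw [hfg, LinearMap.det_comp, norm_mul, hu, _root_.mul_one, hdet, ← hfg,
    Nat.card_congr (Submodule.quotientEquivPiSpan _ b h).toEquiv, Nat.card_pi, Nat.cast_prod, norm_prod,
    ← Finset.prod_mul_distrib]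
  exact Finset.prod_eq_one fun i _ => natCard_quotient_mul_norm _ (Submodule.smithNormalFormCoeffs_ne_zero b h i)

end Padic

theorem natCard_primaryComponent {G : Type*} [CommGroup G] [Finite G] {l : ℕ} [Fact l.Prime] {a M : ℕ}
    (h : Nat.card G = l ^ a * M) (hM : ¬ l ∣ M) : Nat.card (CommGroup.primaryComponent G l) = l ^ a := by
  have hp : l.Prime := Fact.out
  obtain ⟨j, hj⟩ := (IsPGroup.iff_card).1 (CommGroup.primaryComponent.isPGroup (G := G) (p := l))
  obtain ⟨H, hH⟩ := Sylow.exists_subgroup_card_pow_prime (G := G) l (n := a) ⟨M, h⟩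
  have hle : H ≤ CommGroup.primaryComponent G l := fun x hx => by
    refine CommGroup.mem_primaryComponent.2 ⟨a, congrArg Subtype.val
      ((orderOf_dvd_iff_pow_eq_one (x := (⟨x, hx⟩ : H))).1 ?_)⟩
    exact hH ▸ orderOf_dvd_natCard _
  have h1 : l ^ j ∣ l ^ a := by
    refine (Nat.Coprime.dvd_mul_right (Nat.Coprime.pow_left j ((Nat.Prime.coprime_iff_not_dvd hp).2 hM))).1 ?_
    rw [← hj, ← h]
    exact Subgroup.card_subgroup_dvd_card _
  have h2 := Subgroup.card_dvd_of_le hle
  rw [hH, hj] at h2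
  rw [hj]
  exact Nat.dvd_antisymm h1 h2

variable {k : Type u} [Field k] {A B : Over (Spec (CommRingCat.of k))}
  [GrpObj A] [IsCommMonObj A] [IsProper A.hom] [GeometricallyIntegral A.hom]
  [GrpObj B] [IsCommMonObj B] [IsProper B.hom] [GeometricallyIntegral B.hom]
  (K : Type u) [Field K] [Algebra k K] [IsAlgClosed K] (l : ℕ) [Fact l.Prime]

omit [IsProper A.hom] [GeometricallyIntegral A.hom] [IsProper B.hom] [GeometricallyIntegral B.hom] [Fact l.Prime] in
theorem compat_pow (z : AbDual.TateMod A l (SGA7.pt (K := k) K)) (n j : ℕ) :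
    ((z : ℕ → Additive (SGA7.pt (K := k) K ⟶ A)) (n + j)).toMul ^ (l ^ j) =
      ((z : ℕ → Additive (SGA7.pt (K := k) K ⟶ A)) n).toMul := by
  induction j with
  | zero => simp
  | succ j ih =>
    rw [pow_succ', _root_.pow_mul, ← ih]
    congr 1
    exact congrArg Additive.toMul (z.2.2 (n + j))

/-- The subgroup of points killed by a homomorphism. -/
def kerPts (φ : A ⟶ B) [IsMonHom φ] : Subgroup (SGA7.pt (K := k) K ⟶ A) where
  carrier := {x | x ≫ φ = 1}
  one_mem' := MonObj.one_comp φ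
  mul_mem' {a b} (ha : a ≫ φ = 1) (hb : b ≫ φ = 1) := by
    show (a * b) ≫ φ = 1
    rw [MonObj.mul_comp, ha, hb, _root_.one_mul]
  inv_mem' {a} (ha : a ≫ φ = 1) := by
    show a⁻¹ ≫ φ = 1
    rw [GrpObj.inv_comp, ha, _root_.inv_one]

theorem mem_kerPts {φ : A ⟶ B} [IsMonHom φ] {x : SGA7.pt (K := k) K ⟶ A} : x ∈ kerPts K φ ↔ x ≫ φ = 1 := Iff.rfl

omit [IsProper A.hom] [GeometricallyIntegral A.hom] [IsProper B.hom] [GeometricallyIntegral B.hom] in
instance (φ : A ⟶ B) [IsMonHom φ] [IsFinite φ.left] : Finite (kerPts K φ) := finite_kerPts K φ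

/-- The cokernel on Tate modules is the `l`-part of the kernel. -/
theorem nonempty_coker_equiv (hl : (l : k) ≠ 0) (φ : A ⟶ B) [IsMonHom φ] [IsFinite φ.left]
    (hsurj : ∀ y : SGA7.pt (K := k) K ⟶ B, ∃ x : SGA7.pt (K := k) K ⟶ A, x ≫ φ = y) :
    ∃ a M : ℕ, Nat.card (kerPts K φ) = l ^ a * M ∧ ¬ l ∣ M ∧
      Nat.card (AbDual.TateMod B l (SGA7.pt (K := k) K) ⧸
        LinearMap.range (AbDual.tateMapₗ (l := l) (T := SGA7.pt (K := k) K) φ)) = l ^ a ∧
      Nonempty ((AbDual.TateMod B l (SGA7.pt (K := k) K) ⧸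
        LinearMap.range (AbDual.tateMapₗ (l := l) (T := SGA7.pt (K := k) K) φ)) ≃+
        Additive (CommGroup.primaryComponent (kerPts K φ) l)) := by
  classical
  have hp : l.Prime := Fact.out
  obtain ⟨a, M, hM, hcard⟩ := Nat.exists_eq_pow_mul_and_not_dvd (n := Nat.card (kerPts K φ)) Nat.card_pos.ne' l hp.ne_one
  refine ⟨a, M, hcard, hM, ?_⟩
  have hcop : (l ^ (a + 1)).Coprime M := Nat.Coprime.pow_left _ ((Nat.Prime.coprime_iff_not_dvd hp).2 hM)
  obtain ⟨e, he1, he2⟩ := Nat.chineseRemainder hcop 1 0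
  have heM : M ∣ e := Nat.modEq_zero_iff_dvd.1 he2
  have hel : ¬ l ∣ e := fun h => hp.ne_one (Nat.dvd_one.1 ((Nat.ModEq.dvd_iff
    (Nat.ModEq.of_dvd (dvd_pow_self l (Nat.succ_ne_zero a)) he1) dvd_rfl).1 h))
  choose g hg using hsurj
  let N := l ^ a * e
  have hN : ∀ c : SGA7.pt (K := k) K ⟶ A, c ≫ φ = 1 → c ^ N = 1 := fun c hc => by
    have h : orderOf (⟨c, hc⟩ : kerPts K φ) ∣ N :=
      (hcard ▸ orderOf_dvd_natCard _).trans (Nat.mul_dvd_mul_left _ heM)
    exact congrArg Subtype.val (orderOf_dvd_iff_pow_eq_one.1 h)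
  have hindep : ∀ x y : SGA7.pt (K := k) K ⟶ A, x ≫ φ = y ≫ φ → x ^ N = y ^ N := fun x y h => by
    have := hN (x * y⁻¹) (by rw [MonObj.mul_comp, GrpObj.inv_comp, h, mul_inv_cancel])
    rwa [_root_.mul_pow, _root_.inv_pow, mul_inv_eq_one] at this
  have hprim : ∀ (x : SGA7.pt (K := k) K ⟶ A), (x ≫ φ) ^ (l ^ a) = 1 →
      (x ^ N) ≫ φ = 1 ∧ (x ^ N) ^ (l ^ a) = 1 := fun x hx => by
    have h1 : (x ^ (l ^ a)) ≫ φ = 1 := by rw [map_pow, hx]
    refine ⟨by rw [map_pow, _root_.pow_mul, hx, _root_.one_pow], ?_⟩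
    rw [← _root_.pow_mul, mul_comm N, _root_.pow_mul]
    exact hN _ h1
  let T := AbDual.tateMapₗ (l := l) (T := SGA7.pt (K := k) K) φ
  let z' := fun (z : AbDual.TateMod B l (SGA7.pt (K := k) K)) (n : ℕ) =>
    ((z : ℕ → Additive (SGA7.pt (K := k) K ⟶ B)) n).toMul
  have hzN : ∀ z n, z' z n ^ (l ^ n) = 1 := fun z n => z.2.1 n
  let Θ : AbDual.TateMod B l (SGA7.pt (K := k) K) →+ Additive (CommGroup.primaryComponent (kerPts K φ) l) :=
    { toFun := fun z => Additive.ofMul ⟨⟨g (z' z a) ^ N, (hprim _ (by rw [hg]; exact hzN z a)).1⟩, by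
        obtain ⟨j, -, hj⟩ := (Nat.dvd_prime_pow hp).1 (orderOf_dvd_of_pow_eq_one
          (x := (⟨g (z' z a) ^ N, (hprim _ (by rw [hg]; exact hzN z a)).1⟩ : kerPts K φ))
          (Subtype.ext (hprim _ (by rw [hg]; exact hzN z a)).2))
        exact ⟨j, hj ▸ pow_orderOf_eq_one _⟩⟩
      map_zero' := Additive.toMul.injective (Subtype.ext (Subtype.ext
        ((hindep _ 1 (by rw [hg, MonObj.one_comp]; rfl)).trans (_root_.one_pow N))))
      map_add' := fun z w => Additive.toMul.injective (Subtype.ext (Subtype.ext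
        ((hindep _ _ (by rw [hg, MonObj.mul_comp, hg, hg]; rfl)).trans (_root_.mul_pow _ _ N)))) }
  have hker : Θ.ker = (LinearMap.range T).toAddSubgroup := by
    ext z
    constructor
    · intro hz
      let w : AbDual.TateMod A l (SGA7.pt (K := k) K) := ⟨fun n => Additive.ofMul (g (z' z (n + a)) ^ N), by
        have hstep : ∀ n, (g (z' z (n + 1 + a)) ^ N) ^ l = g (z' z (n + a)) ^ N := fun n => by
          rw [← _root_.pow_mul, mul_comm, _root_.pow_mul]
          refine hindep _ _ ?_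
          rw [map_pow, hg, hg, show n + 1 + a = (n + a) + 1 by omega]
          exact congrArg Additive.toMul (z.2.2 (n + a))
        have h0 : g (z' z (0 + a)) ^ N = 1 := by
          rw [Nat.zero_add]
          exact congrArg (fun c : Additive (CommGroup.primaryComponent (kerPts K φ) l) =>
            ((Additive.toMul c).1).1) hz
        refine ⟨fun n => ?_, fun n => congrArg Additive.ofMul (hstep n)⟩
        induction n with
        | zero => exact congrArg Additive.ofMul (by rw [pow_zero, pow_one]; exact h0)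
        | succ n ih =>
          show Additive.ofMul ((g (z' z (n + 1 + a)) ^ N) ^ (l ^ (n + 1))) = 0
          rw [pow_succ' l n, _root_.pow_mul, hstep]
          exact ih⟩
      have hw : T w = (e : ℤ_[l]) • z := by
        refine AbDual.TateMod.ext fun n => ?_
        rw [Nat.cast_smul_eq_nsmul]
        show Additive.ofMul ((g (z' z (n + a)) ^ N) ≫ φ) = e • Additive.ofMul (z' z n)
        rw [← ofMul_pow, map_pow, hg, _root_.pow_mul, compat_pow K l z n a]
      have heu : IsUnit (e : ℤ_[l]) := by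
        rw [PadicInt.isUnit_iff]
        exact PadicInt.norm_natCast_eq_one_iff.2 ((Nat.Prime.coprime_iff_not_dvd hp).2 hel)
      refine ⟨(heu.unit⁻¹ : ℤ_[l]ˣ).val • w, ?_⟩
      rw [map_smul, hw, ← mul_smul, IsUnit.val_inv_mul, one_smul]
    · rintro ⟨w, rfl⟩
      refine Additive.toMul.injective (Subtype.ext (Subtype.ext ?_))
      refine (hindep _ ((w : ℕ → Additive (SGA7.pt (K := k) K ⟶ A)) a).toMul (by rw [hg]; rfl)).trans ?_
      rw [_root_.pow_mul, show ((w : ℕ → Additive (SGA7.pt (K := k) K ⟶ A)) a).toMul ^ (l ^ a) = 1 from w.2.1 a,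
        _root_.one_pow]
      rfl
  have hΘ : Function.Surjective Θ := fun c => by
    obtain ⟨⟨⟨c, hc⟩, j, hj⟩, rfl⟩ := Additive.ofMul.surjective c
    obtain ⟨w, hw⟩ := exists_pow_eq_ext K (A := A) (n := l ^ a) (by rw [Nat.cast_pow]; exact pow_ne_zero a hl) c
    have hca : c ^ (l ^ a) = 1 := by
      have h1 : orderOf (⟨c, hc⟩ : kerPts K φ) ∣ l ^ j := orderOf_dvd_of_pow_eq_one hj
      have h2 : orderOf (⟨c, hc⟩ : kerPts K φ) ∣ l ^ a * M := hcard ▸ orderOf_dvd_natCard _
      obtain ⟨i, -, hi⟩ := (Nat.dvd_prime_pow hp).1 h1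
      have h3 : orderOf (⟨c, hc⟩ : kerPts K φ) ∣ l ^ a := (Nat.Coprime.dvd_mul_right
        (hi ▸ Nat.Coprime.pow_left i ((Nat.Prime.coprime_iff_not_dvd hp).2 hM))).1 h2
      exact congrArg Subtype.val (orderOf_dvd_iff_pow_eq_one.1 h3)
    obtain ⟨z, hz⟩ := exists_tateMod_ext K (A := B) l hl (n := a) (w ≫ φ) (by rw [← map_pow, hw]; exact hc)
    refine ⟨z, Additive.toMul.injective (Subtype.ext (Subtype.ext ?_))⟩
    refine (hindep _ w (by rw [hg]; exact hz)).trans ?_
    rw [_root_.pow_mul, hw]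
    obtain ⟨d, hd⟩ : ∃ d, e = 1 + l ^ a * d := by
      have h1 : 1 ≤ e := Nat.one_le_iff_ne_zero.2 fun h => hel (h ▸ dvd_zero l)
      obtain ⟨d, hd⟩ := (Nat.modEq_iff_dvd' h1).1 (Nat.ModEq.of_dvd (pow_dvd_pow l (Nat.le_succ a)) he1).symm
      exact ⟨d, by omega⟩
    rw [hd, _root_.pow_add, pow_one, _root_.pow_mul, hca, _root_.one_pow, _root_.mul_one]
    rfl
  let E := (QuotientAddGroup.quotientAddEquivOfEq hker.symm).trans (QuotientAddGroup.quotientKerEquivOfSurjective Θ hΘ)
  refine ⟨(Nat.card_congr E.toEquiv).trans ((Nat.card_congr Additive.toMul).trans ?_), ⟨E⟩⟩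
  exact natCard_primaryComponent (G := kerPts K φ) hcard hM

end Groth.Agent.TateTors22
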