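import Groth.Agent.Lib.TateTors22.Lattice
import Groth.Prelude.Def_EndTate
import Groth.Prelude.Def_SGA7a

/-!
# Linear independence of the action on Tate modules; saturation
-/

universe u

open CategoryTheory Limits AlgebraicGeometry MonoidalCategory CartesianMonoidalCategory MonObj
open scoped GrpObj

set_option linter.style.haveILetI false
set_option backward.isDefEq.respectTransparency false

namespace Groth.Agent.TateTors22

variable {k : Type u} [Field k] {A B : Over (Spec (CommRingCat.of k))}
  [GrpObj A] [IsCommMonObj A] [IsProper A.hom] [GeometricallyIntegral A.hom]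
  [GrpObj B] [IsCommMonObj B] [IsProper B.hom] [GeometricallyIntegral B.hom]
  (K : Type u) [Field K] [Algebra k K] [IsAlgClosed K]
  (l : ℕ) [Fact l.Prime]

/-- The underlying morphism, additively. -/
noncomputable def toHomAdd : EndAV.Hom A B →+ Additive (A ⟶ B) where
  toFun φ := Additive.ofMul φ.toHom
  map_zero' := congrArg Additive.ofMul EndAV.Hom.toHom_zero
  map_add' φ ψ := congrArg Additive.ofMul (EndAV.Hom.toHom_add φ ψ)

/-- A homomorphism killing every point of the `n`-th level of the Tate module is a multiple of `l ^ n`. -/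
theorem exists_eq_zsmul (hl : (l : k) ≠ 0) (φ : EndAV.Hom A B) {n : ℕ}
    (h : ∀ z : AbDual.TateMod A l (SGA7.pt K),
      ((EndAV.Hom.tateMap l (SGA7.pt K) φ z : AbDual.TateMod B l (SGA7.pt K)) :
        ℕ → Additive (SGA7.pt K ⟶ B)) n = 0) :
    ∃ ψ : EndAV.Hom A B, φ = ((l ^ n : ℕ) : ℤ) • ψ := by
  obtain ⟨f, hf, e⟩ := exists_factor_ext K (n := l ^ n) (by rw [Nat.cast_pow]; exact pow_ne_zero _ hl) φ.toHom
    fun x hx => by
      obtain ⟨z, hz⟩ := exists_tateMod_ext K (A := A) l hl (n := n) x hx
      rw [← hz]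
      exact congrArg Additive.toMul (h z)
  haveI := hf
  refine ⟨EndAV.Hom.of f, EndAV.Hom.ext ?_⟩
  rw [EndAV.Hom.toHom_zsmul, EndAV.Hom.toHom_of, zpow_natCast, e, map_pow, Category.id_comp]

/-- The `n`-th level of `Σ α_i T_l(e_i)` is that of an integral combination. -/
theorem tate_sum_level {T : Over (Spec (CommRingCat.of k))} {J : Type*} (s : Finset J) (α : J → ℤ_[l])
    (x : J → EndAV.Hom A B) (z : AbDual.TateMod A l T) (n : ℕ) :
    (((∑ i ∈ s, α i • EndAV.Hom.tateMap l T (x i)) z : AbDual.TateMod B l T) : ℕ → Additive (T ⟶ B)) n =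
      ((EndAV.Hom.tateMap l T (∑ i ∈ s, ((α i).appr n : ℤ) • x i) z : AbDual.TateMod B l T) :
        ℕ → Additive (T ⟶ B)) n := by
  classical
  induction s using Finset.induction_on with
  | empty => simp only [Finset.sum_empty, map_zero, LinearMap.zero_apply]
  | insert i s hi ih =>
    rw [Finset.sum_insert hi, Finset.sum_insert hi, map_add, LinearMap.add_apply, LinearMap.add_apply,
      AddSubgroup.coe_add, AddSubgroup.coe_add, Pi.add_apply, Pi.add_apply, ih, LinearMap.smul_apply,
      AbDual.smul_component, map_zsmul, LinearMap.smul_apply, AddSubgroup.coe_zsmul, Pi.smul_apply, natCast_zsmul]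

/-- If a combination of `T_l(x_i)` vanishes at level `n`, the coefficients are, up to a fixed constant, divisible
by `l ^ n`. -/
theorem exists_level_const (hl : (l : k) ≠ 0) {r : ℕ} (x : Fin r → EndAV.Hom A B) (hx : LinearIndependent ℤ x) :
    ∃ c : ℤ, c ≠ 0 ∧ ∀ (α : Fin r → ℤ_[l]) (n : ℕ),
      (∀ z : AbDual.TateMod A l (SGA7.pt K),
        (((∑ i, α i • EndAV.Hom.tateMap l (SGA7.pt K) (x i)) z : AbDual.TateMod B l (SGA7.pt K)) :
          ℕ → Additive (SGA7.pt K ⟶ B)) n = 0) →
      ∀ i, PadicInt.toZModPow n ((c : ℤ_[l]) * α i) = 0 := by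
  obtain ⟨c, hc, hsat⟩ := exists_saturation_const exists_functional
    (Fintype.linearCombination ℤ x).toAddMonoidHom
    (LinearMap.ker_eq_bot.1 (LinearMap.ker_eq_bot'.2 fun a ha => funext (Fintype.linearIndependent_iff.1 hx a
      (by rwa [Fintype.linearCombination_apply] at ha))))
  refine ⟨c, hc, fun α n h i => ?_⟩
  obtain ⟨ψ, hψ⟩ := exists_eq_zsmul K l hl (∑ i, ((α i).appr n : ℤ) • x i) fun z => by
    rw [← tate_sum_level]; exact h z
  have hd := hsat _ (fun i => ((α i).appr n : ℤ)) ψ
    (by rw [LinearMap.toAddMonoidHom_coe, Fintype.linearCombination_apply]; exact hψ) i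
  rw [← ZMod.intCast_zmod_eq_zero_iff_dvd] at hd
  rw [map_mul, map_intCast, AbDual.toZModPow_eq_appr]
  simpa using hd

/-- Homomorphisms independent over `ℤ` act independently over `ℤ_l` on Tate modules. -/
theorem linearIndependent_tateMap (hl : (l : k) ≠ 0) {r : ℕ} (x : Fin r → EndAV.Hom A B)
    (hx : LinearIndependent ℤ x) :
    LinearIndependent ℤ_[l] fun i => EndAV.Hom.tateMap l (SGA7.pt K) (x i) := by
  obtain ⟨c, hc, hlev⟩ := exists_level_const K l hl x hx
  refine Fintype.linearIndependent_iff.2 fun α hα i => ?_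
  have h0 : (c : ℤ_[l]) * α i = 0 := PadicInt.ext_of_toZModPow.1 fun n => by
    rw [map_zero]
    exact hlev α n (fun z => by rw [hα]; rfl) i
  exact (mul_eq_zero.1 h0).resolve_left (Int.cast_ne_zero.2 hc)

/-- The same for morphisms which are homomorphisms. -/
theorem linearIndependent_tateMapₗ (hl : (l : k) ≠ 0) {r : ℕ} (e : Fin r → (A ⟶ B)) [∀ i, IsMonHom (e i)]
    (he : LinearIndependent ℤ (fun i => Additive.ofMul (e i))) :
    LinearIndependent ℤ_[l] (fun i => AbDual.tateMapₗ (l := l) (T := SGA7.pt K) (e i)) :=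
  linearIndependent_tateMap K l hl (fun i => EndAV.Hom.of (e i))
    (LinearIndependent.of_comp (toHomAdd (A := A) (B := B)).toIntLinearMap he)

end Groth.Agent.TateTors22
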