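import Mathlib.LinearAlgebra.Matrix.Charpoly.Eigs
import Mathlib.LinearAlgebra.Matrix.Charpoly.Basic
import Mathlib.FieldTheory.IsAlgClosed.AlgebraicClosure
import Mathlib.FieldTheory.Normal.Basic
import Mathlib.FieldTheory.Minpoly.IsIntegrallyClosed
import Mathlib.NumberTheory.Padics.PadicIntegers
import Mathlib.RingTheory.MvPolynomial.Symmetric.FundamentalTheorem
import Mathlib.RingTheory.Polynomial.Vieta
import Mathlib.RingTheory.Polynomial.RationalRoot
import Mathlib.RingTheory.DiscreteValuationRing.Basic
import Mathlib.Algebra.MvPolynomial.Funext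
import Mathlib.Analysis.SpecificLimits.Normed
import Mathlib.Topology.Algebra.Polynomial
import Mathlib.Algebra.BigOperators.Group.Finset.Basic

/-!
# Weil's lemma on characteristic polynomials with equal absolute values of determinants
-/

universe u

open Polynomial

set_option linter.style.haveILetI false

namespace Groth.Agent.TateTors22

/-- The determinant of a polynomial in a matrix through the roots of the characteristic polynomial. -/
theorem det_aeval_eq_prod_roots {L : Type*} [Field L] [IsAlgClosed L] {n : Type*} [Fintype n] [DecidableEq n]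
    (M : Matrix n n L) {G : L[X]} (hG : G.Monic) :
    (aeval M G).det = (M.charpoly.roots.map fun b => G.eval b).prod := by
  have hsplit := IsAlgClosed.splits M.charpoly
  have hone : ∀ s : L, (aeval M (X - C s)).det = (M.charpoly.roots.map fun b => b - s).prod := fun s => by
    have h1 : (aeval M (X - C s)) = -(Matrix.scalar n s - M) := by
      rw [map_sub, aeval_X, aeval_C, Matrix.algebraMap_eq_diagonal]
      simp [Matrix.scalar_apply]
    rw [h1, Matrix.det_neg, ← Matrix.eval_charpoly]
    conv_lhs => rw [hsplit.eq_prod_roots_of_monic (Matrix.charpoly_monic M)]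
    rw [eval_multiset_prod, Multiset.map_map]
    rw [show Fintype.card n = M.charpoly.roots.card by
      rw [← hsplit.natDegree_eq_card_roots, Matrix.charpoly_natDegree_eq_dim]]
    simp only [Function.comp_def, eval_sub, eval_X, eval_C]
    induction M.charpoly.roots using Multiset.induction_on with
    | empty => simp
    | cons a S ih =>
      simp only [Multiset.map_cons, Multiset.prod_cons, Multiset.card_cons, pow_succ]
      linear_combination (a - s) * ih
  conv_lhs => rw [(IsAlgClosed.splits G).eq_prod_roots_of_monic hG]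
  conv_rhs => rw [(IsAlgClosed.splits G).eq_prod_roots_of_monic hG]
  induction G.roots using Multiset.induction_on with
  | empty => simp
  | cons s S ih =>
    simp only [Multiset.map_cons, Multiset.prod_cons, map_mul, Matrix.det_mul, ih, hone, eval_mul]
    simp only [eval_sub, eval_X, eval_C, Multiset.prod_map_mul]

section Padic

variable {l : ℕ} [Fact l.Prime]

/-- Monic polynomials with the same absolute values near zero vanish there to the same order. -/
theorem rootMultiplicity_zero_eq {R S : ℚ_[l][X]} (hR : R ≠ 0) (hS : S ≠ 0)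
    (h : ∀ t : ℤ_[l], S.eval (t : ℚ_[l]) ≠ 0 → ‖R.eval (t : ℚ_[l])‖ = ‖S.eval (t : ℚ_[l])‖) :
    R.rootMultiplicity 0 = S.rootMultiplicity 0 := by
  obtain ⟨R', eR, hR'⟩ := exists_eq_pow_rootMultiplicity_mul_and_not_dvd R hR 0
  obtain ⟨S', eS, hS'⟩ := exists_eq_pow_rootMultiplicity_mul_and_not_dvd S hS 0
  rw [map_zero, sub_zero] at eR eS hR' hS'
  rw [X_dvd_iff, coeff_zero_eq_eval_zero] at hR' hS'
  set m := R.rootMultiplicity 0
  set n := S.rootMultiplicity 0
  let t : ℕ → ℚ_[l] := fun j => (((l : ℤ_[l]) ^ j : ℤ_[l]) : ℚ_[l])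
  have ht : Filter.Tendsto t Filter.atTop (nhds 0) := by
    have h1 : ‖(l : ℚ_[l])‖ < 1 := Padic.norm_p_lt_one
    simpa [t] using tendsto_pow_atTop_nhds_zero_of_norm_lt_one h1
  have ht0 : ∀ j, t j ≠ 0 := fun j => by
    simp [t, (Fact.out : l.Prime).ne_zero]
  have hlim : ∀ P : ℚ_[l][X], Filter.Tendsto (fun j => ‖P.eval (t j)‖) Filter.atTop (nhds ‖P.eval 0‖) :=
    fun P => ((P.continuous.tendsto 0).comp ht).norm
  have hev : ∀ᶠ j in Filter.atTop, ‖t j‖ ^ m * ‖R'.eval (t j)‖ = ‖t j‖ ^ n * ‖S'.eval (t j)‖ := by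
    filter_upwards [(hlim S').eventually_ne (norm_ne_zero_iff.2 hS')] with j hj
    have hne : S.eval (t j) ≠ 0 := by
      rw [eS]
      simp only [eval_mul, eval_pow, eval_X, mul_ne_zero_iff]
      exact ⟨pow_ne_zero _ (ht0 j), norm_ne_zero_iff.1 hj⟩
    have := h ((l : ℤ_[l]) ^ j) hne
    rw [eR, eS] at this
    simp only [eval_mul, eval_pow, eval_X, norm_mul] at this
    rw [norm_pow, norm_pow] at this
    exact this
  have key : ∀ (A B : ℚ_[l][X]) (a b : ℕ), A.eval 0 ≠ 0 → a < b →
      ¬ ∀ᶠ j in Filter.atTop, ‖t j‖ ^ a * ‖A.eval (t j)‖ = ‖t j‖ ^ b * ‖B.eval (t j)‖ := by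
    intro A B a b hA hab hev
    have h1 : Filter.Tendsto (fun j => ‖t j‖ ^ (b - a) * ‖B.eval (t j)‖) Filter.atTop (nhds 0) := by
      have := ((ht.norm).pow (b - a)).mul (hlim B)
      rwa [norm_zero, zero_pow (by omega), zero_mul] at this
    have h2 : Filter.Tendsto (fun j => ‖A.eval (t j)‖) Filter.atTop (nhds 0) := by
      refine h1.congr' ?_
      filter_upwards [hev] with j hj
      rw [show b = a + (b - a) by omega, pow_add, mul_assoc] at hj
      exact (mul_left_cancel₀ (pow_ne_zero _ (norm_ne_zero_iff.2 (ht0 j))) hj).symm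
    exact norm_ne_zero_iff.2 hA (tendsto_nhds_unique (hlim A) h2)
  rcases lt_trichotomy m n with hlt | heq | hgt
  · exact absurd hev (key R' S' m n hR' hlt)
  · exact heq
  · exact absurd (hev.mono fun j hj => hj.symm) (key S' R' n m hS' hgt)

variable {n : Type*} [Fintype n] [DecidableEq n]

local notation "L" => AlgebraicClosure ℚ_[l]

/-- The eigenvalues over the algebraic closure. -/
noncomputable def eigen (M : Matrix n n ℚ_[l]) : Multiset L := (M.map (algebraMap ℚ_[l] L)).charpoly.roots

theorem card_eigen (M : Matrix n n ℚ_[l]) : (eigen M).card = Fintype.card n := by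
  rw [eigen, ← (IsAlgClosed.splits _).natDegree_eq_card_roots, Matrix.charpoly_natDegree_eq_dim]

open scoped Classical in
theorem countP_eigen_eq (M : Matrix n n ℚ_[l]) (N : Matrix n n ℤ_[l])
    (hMN : ∀ G : ℤ_[l][X], G.Monic → 0 < G.natDegree → (aeval N G).det ≠ 0 →
      ‖(aeval M (G.map (algebraMap ℤ_[l] ℚ_[l]))).det‖ = ‖(aeval N G).det‖)
    (h : ℤ_[l][X]) (hh : h.Monic) (hdeg : 0 < h.natDegree) :
    Multiset.countP (fun b => aeval b h = 0) (eigen M) =
      Multiset.countP (fun b => aeval b h = 0) (eigen (N.map (algebraMap ℤ_[l] ℚ_[l]))) := by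
  classical
  let φ := algebraMap ℤ_[l] ℚ_[l]
  let R : Matrix n n ℚ_[l] → ℚ_[l][X] := fun M' => (-(aeval M' (h.map φ))).charpoly
  have hmon : ∀ t : ℤ_[l], (h + C t).Monic ∧ 0 < (h + C t).natDegree := fun t =>
    ⟨hh.add_of_left (lt_of_le_of_lt degree_C_le (by
      rw [degree_eq_natDegree hh.ne_zero]; exact_mod_cast hdeg)), by rw [natDegree_add_C]; exact hdeg⟩
  have hReval : ∀ (M' : Matrix n n ℚ_[l]) (t : ℤ_[l]),
      (R M').eval (t : ℚ_[l]) = (aeval M' ((h + C t).map φ)).det := fun M' t => by
    rw [Matrix.eval_charpoly, Polynomial.map_add, map_C, map_add, aeval_C, Matrix.algebraMap_eq_diagonal]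
    congr 1
    rw [sub_neg_eq_add, add_comm]
    simp [Matrix.scalar_apply, φ]
  have hN : ∀ G : ℤ_[l][X], (aeval (N.map φ) (G.map φ)).det = φ (aeval N G).det := fun G => by
    rw [RingHom.map_det, aeval_map_algebraMap]
    congr 1
    exact aeval_algHom_apply (Algebra.ofId ℤ_[l] ℚ_[l]).mapMatrix N G
  have hord := rootMultiplicity_zero_eq (R := R M) (S := R (N.map φ)) (Matrix.charpoly_monic _).ne_zero
    (Matrix.charpoly_monic _).ne_zero fun t ht => by
      rw [hReval, hN] at ht
      rw [hReval, hReval, hN, hMN _ (hmon t).1 (hmon t).2 (fun e => ht (by rw [e, map_zero]))]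
      rfl
  have hcount : ∀ M' : Matrix n n ℚ_[l],
      (R M').rootMultiplicity 0 = Multiset.countP (fun b => aeval b h = 0) (eigen M') := fun M' => by
    let ψ := algebraMap ℚ_[l] L
    have hprod : (R M').map ψ = ((eigen M').map fun b => X + C (aeval b h)).prod := by
      refine Polynomial.funext fun t => ?_
      rw [eval_multiset_prod, Multiset.map_map]
      have hG : (h.map (algebraMap ℤ_[l] L) + C t).Monic := (hh.map _).add_of_left
        (lt_of_le_of_lt degree_C_le (by
          rw [degree_eq_natDegree (hh.map _).ne_zero, hh.natDegree_map]; exact_mod_cast hdeg))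
      have h1 := det_aeval_eq_prod_roots (M'.map ψ) hG
      rw [← Matrix.charpoly_map, Matrix.eval_charpoly]
      rw [map_add, aeval_C, Matrix.algebraMap_eq_diagonal] at h1
      have h2 : (aeval M' (h.map φ)).map ψ = aeval (M'.map ψ) (h.map (algebraMap ℤ_[l] L)) := by
        rw [aeval_map_algebraMap, aeval_map_algebraMap]
        exact (aeval_algHom_apply ((Algebra.ofId ℚ_[l] L).restrictScalars ℤ_[l]).mapMatrix M' h).symm
      rw [show (-(aeval M' (h.map φ))).map ψ = -((aeval M' (h.map φ)).map ψ) by ext; simp, h2,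
        sub_neg_eq_add, add_comm]
      refine Eq.trans ?_ (h1.trans ?_)
      · congr 2
      · congr 1
        refine Multiset.map_congr rfl fun b _ => ?_
        simp [eval_map_algebraMap, add_comm]
    have hroots : ((R M').map ψ).roots = (eigen M').map fun b => -(aeval b h) := by
      rw [hprod, show ((eigen M').map fun b => X + C (aeval b h)) =
        ((eigen M').map fun b => -(aeval b h)).map fun a => X - C a by
          rw [Multiset.map_map]; exact Multiset.map_congr rfl fun b _ => by simp, roots_multiset_prod_X_sub_C]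
    rw [eq_rootMultiplicity_map (f := ψ) (FaithfulSMul.algebraMap_injective _ _), map_zero, ← count_roots, hroots,
      Multiset.count_eq_card_filter_eq, ← Multiset.countP_eq_card_filter, Multiset.countP_map,
      Multiset.countP_eq_card_filter]
    simp
  rw [← hcount, hord, hcount]

/-- Weil's lemma. -/
theorem charpoly_eq_of_norm_det_eq [Nonempty n] (M : Matrix n n ℚ_[l]) (N : Matrix n n ℤ_[l])
    (hMN : ∀ G : ℤ_[l][X], G.Monic → 0 < G.natDegree → (aeval N G).det ≠ 0 →
      ‖(aeval M (G.map (algebraMap ℤ_[l] ℚ_[l]))).det‖ = ‖(aeval N G).det‖) :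
    M.charpoly = N.charpoly.map (algebraMap ℤ_[l] ℚ_[l]) := by
  classical
  let N' := N.map (algebraMap ℤ_[l] ℚ_[l])
  have hNc : N'.charpoly = N.charpoly.map (algebraMap ℤ_[l] ℚ_[l]) := Matrix.charpoly_map _ _
  have hmap : (N'.map (algebraMap ℚ_[l] L)).charpoly = N.charpoly.map (algebraMap ℤ_[l] L) := by
    rw [Matrix.charpoly_map, hNc, Polynomial.map_map, ← IsScalarTower.algebraMap_eq]
  have hintN : ∀ b ∈ eigen N', aeval b N.charpoly = 0 := fun b hb => by
    rw [eigen, hmap, mem_roots ((Matrix.charpoly_monic N).map _).ne_zero, IsRoot, eval_map_algebraMap] at hb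
    exact hb
  have hdeg : 0 < N.charpoly.natDegree := by rw [Matrix.charpoly_natDegree_eq_dim]; exact Fintype.card_pos
  have hintM : ∀ b ∈ eigen M, aeval b N.charpoly = 0 := by
    have h1 := countP_eigen_eq M N hMN N.charpoly (Matrix.charpoly_monic N) hdeg
    rw [(Multiset.countP_eq_card (s := eigen N')).2 hintN, card_eigen, ← card_eigen M,
      Multiset.countP_eq_card] at h1
    exact h1
  have hcount : ∀ x : L, aeval x N.charpoly = 0 → (eigen M).count x = (eigen N').count x := by
    intro x hx
    have hint : IsIntegral ℤ_[l] x := ⟨N.charpoly, Matrix.charpoly_monic N, hx⟩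
    let h := minpoly ℤ_[l] x
    have hq : minpoly ℚ_[l] x = h.map (algebraMap ℤ_[l] ℚ_[l]) := minpoly.isIntegrallyClosed_eq_field_fractions' ℚ_[l] hint
    have hkey := countP_eigen_eq M N hMN h (minpoly.monic hint) (minpoly.natDegree_pos hint)
    have hsum : ∀ M' : Matrix n n ℚ_[l],
        Multiset.countP (fun b => aeval b h = 0) (eigen M') =
          ((h.map (algebraMap ℤ_[l] L)).roots.toFinset.card) * (eigen M').count x := by
      intro M'
      have hs : ∀ b : L, aeval b h = 0 ↔ b ∈ (h.map (algebraMap ℤ_[l] L)).roots.toFinset := fun b => by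
        rw [Multiset.mem_toFinset, mem_roots ((minpoly.monic hint).map _).ne_zero, IsRoot, eval_map_algebraMap]
      rw [Multiset.countP_eq_card_filter,
        ← Multiset.sum_count_eq_card (s := (h.map (algebraMap ℤ_[l] L)).roots.toFinset) fun b hb =>
          (hs b).1 (Multiset.mem_filter.1 hb).2, ← smul_eq_mul, ← Finset.sum_const]
      refine Finset.sum_congr rfl fun y hy => ?_
      rw [Multiset.count_filter_of_pos (p := fun b => aeval b h = 0) ((hs y).2 hy)]
      have hy' : aeval y (minpoly ℚ_[l] x) = 0 := by rw [hq, aeval_map_algebraMap]; exact (hs y).2 hy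
      obtain ⟨σ, hσ⟩ := minpoly.exists_algEquiv_of_root' (Algebra.IsAlgebraic.isAlgebraic x) hy'
      rw [eigen, count_roots, count_roots, ← hσ]
      conv_rhs => rw [eq_rootMultiplicity_map (f := σ.toAlgHom.toRingHom) σ.injective]
      congr 1
      rw [Matrix.charpoly_map, Polynomial.map_map]
      congr 1
      exact RingHom.ext fun c => (σ.commutes c).symm
    rw [hsum, hsum] at hkey
    refine Nat.eq_of_mul_eq_mul_left ?_ hkey
    refine Finset.card_pos.2 ⟨x, ?_⟩
    rw [Multiset.mem_toFinset, mem_roots ((minpoly.monic hint).map _).ne_zero, IsRoot, eval_map_algebraMap]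
    exact minpoly.aeval _ _
  have heigen : eigen M = eigen N' := Multiset.ext.2 fun x => by
    by_cases hx : aeval x N.charpoly = 0
    · exact hcount x hx
    · rw [Multiset.count_eq_zero.2 fun h => hx (hintM x h), Multiset.count_eq_zero.2 fun h => hx (hintN x h)]
  have hsplit : ∀ M' : Matrix n n ℚ_[l], (M'.map (algebraMap ℚ_[l] L)).charpoly =
      ((eigen M').map fun a => X - C a).prod := fun M' =>
    (IsAlgClosed.splits _).eq_prod_roots_of_monic (Matrix.charpoly_monic _)
  apply Polynomial.map_injective (algebraMap ℚ_[l] L) (FaithfulSMul.algebraMap_injective _ _)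
  rw [← hNc, ← Matrix.charpoly_map, ← Matrix.charpoly_map, hsplit, hsplit, heigen]

end Padic

/-- A polynomial identity tested on the coefficients of products of linear factors. -/
theorem eq_of_eval_esymm_eq {e : ℕ} (F R : MvPolynomial (Fin e) ℚ) (S : Set ℚ) (hS : S.Infinite)
    (h : ∀ v : Fin e → ℚ, (∀ i, v i ∈ S) →
      MvPolynomial.eval (fun i : Fin e => MvPolynomial.eval v (MvPolynomial.esymm (Fin e) ℚ (i + 1))) F =
        MvPolynomial.eval (fun i : Fin e => MvPolynomial.eval v (MvPolynomial.esymm (Fin e) ℚ (i + 1))) R) :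
    F = R := by
  apply MvPolynomial.esymmAlgHom_fin_injective ℚ (le_refl e)
  refine Subtype.ext ?_
  rw [MvPolynomial.esymmAlgHom_apply, MvPolynomial.esymmAlgHom_apply]
  refine MvPolynomial.funext_set (fun _ => S) (fun _ => hS) fun v hv => ?_
  have key : ∀ P : MvPolynomial (Fin e) ℚ,
      MvPolynomial.eval v (MvPolynomial.aeval (fun i : Fin e => MvPolynomial.esymm (Fin e) ℚ (i + 1)) P) =
        MvPolynomial.eval (fun i : Fin e => MvPolynomial.eval v (MvPolynomial.esymm (Fin e) ℚ (i + 1))) P := by
    intro P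
    induction P using MvPolynomial.induction_on with
    | C a => simp
    | add p q hp hq => rw [map_add, map_add, hp, hq, map_add]
    | mul_X p i hp => rw [map_mul, map_mul, hp, MvPolynomial.aeval_X, map_mul, MvPolynomial.eval_X]
  rw [key, key]
  exact h v fun i => hv i (Set.mem_univ i)

end Groth.Agent.TateTors22
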